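import Groth.Agent.Rig7.Main
import Groth.Agent.Hensel.PairBasic

/-! Clopen subsets and base change of finite algebras to the completion. -/

set_option autoImplicit false
universe u

open TensorProduct

namespace Groth.Agent.GabberRigSec

open Rig7

theorem dc_of_mem {B : Type u} [CommRing B] (J : Ideal B) [IsAdicComplete J B] {f : B} (hf : f ∈ J) :
    DC f := by
  have hmem : ∀ (n : ℕ) (y : B), y ∈ (J ^ n • ⊤ : Submodule B B) ↔ y ∈ J ^ n := by
    intro n y
    rw [smul_eq_mul, Ideal.mul_top]
  intro a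
  have hex : ∀ n, ∃ x : B, ∀ N, x - ∑ i ∈ Finset.range N, f ^ i * a (n + i) ∈ J ^ N := by
    intro n
    have hc : ∀ {N M : ℕ}, N ≤ M → ∑ i ∈ Finset.range N, f ^ i * a (n + i) ≡ ∑ i ∈ Finset.range M, f ^ i * a (n + i)
        [SMOD (J ^ N • ⊤ : Submodule B B)] := by
      intro N M hNM
      rw [SModEq.sub_mem, ← neg_mem_iff, neg_sub, Finset.sum_range_sub_sum_range hNM]
      refine sum_mem fun i hi => (hmem _ _).2 ?_
      simp only [Finset.mem_filter] at hi
      exact Ideal.mul_mem_right _ _ (Ideal.pow_le_pow_right hi.2 (Ideal.pow_mem_pow hf i))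
    obtain ⟨L, hL⟩ := IsPrecomplete.prec (inferInstance : IsPrecomplete J B) hc
    exact ⟨L, fun N => by have := hL N; rw [SModEq.sub_mem, hmem] at this; rw [← neg_mem_iff, neg_sub]; exact this⟩
  choose x hx using hex
  refine ⟨x, fun n => sub_eq_zero.1 (IsHausdorff.haus (inferInstance : IsHausdorff J B) _ fun N => ?_), ?_⟩
  · rw [SModEq.zero, hmem]
    have h1 : f * (x (n + 1) - ∑ i ∈ Finset.range N, f ^ i * a (n + 1 + i)) ∈ J ^ N :=
      Ideal.mul_mem_left _ _ (hx (n + 1) N)
    have h2 := Ideal.pow_le_pow_right (Nat.le_succ N) (hx n (N + 1))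
    rw [Finset.sum_range_succ'] at h2
    have e : ∑ k ∈ Finset.range N, f ^ (k + 1) * a (n + (k + 1)) = f * ∑ k ∈ Finset.range N, f ^ k * a (n + 1 + k) := by
      rw [Finset.mul_sum]
      refine Finset.sum_congr rfl fun k _ => ?_
      rw [show n + (k + 1) = n + 1 + k by omega]
      ring
    rw [e, pow_zero, one_mul, Nat.add_zero] at h2
    convert sub_mem h2 h1 using 1
    ring
  · intro y hy
    funext n
    refine sub_eq_zero.1 (IsHausdorff.haus (inferInstance : IsHausdorff J B) _ fun N => ?_)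
    rw [SModEq.zero, hmem]
    have key : ∀ N, y n = (∑ i ∈ Finset.range N, f ^ i * a (n + i)) + f ^ N * y (n + N) := by
      intro N
      induction N with
      | zero => simp
      | succ N ih => rw [Finset.sum_range_succ, ih, hy (n + N), ← Nat.add_assoc]; ring
    have h2 := sub_mem (Ideal.mul_mem_right (y (n + N)) _ (Ideal.pow_mem_pow hf N)) (hx n N)
    convert h2 using 1
    linear_combination key N

/-- A finitely presented algebra over a ring derived complete along `f` is derived complete along `f`. -/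
theorem dc_finitePresentation {R S : Type u} [CommRing R] [CommRing S] [Algebra R S]
    [Module.FinitePresentation R S] {f : R} (hf : DC f) : DC (algebraMap R S f) := by
  have hv : ∀ {m : ℕ} (a : ℕ → Fin m → R), ∃ x : ℕ → Fin m → R, ∀ n, x n = a n + f • x (n + 1) := fun {m} a => by
    choose x hx using fun i : Fin m => (hf (fun n => a n i)).exists
    exact ⟨fun n i => x i n, fun n => funext fun i => hx i n⟩
  have hv0 : ∀ {m : ℕ} (x : ℕ → Fin m → R), (∀ n, x n = f • x (n + 1)) → ∀ n, x n = 0 := fun {m} x hx n =>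
    funext fun i => congrFun (hf.eq_zero (x := fun n => x n i) fun n => congrFun (hx n) i) n
  obtain ⟨n, K, e, hK⟩ := Module.FinitePresentation.exists_fin R S
  obtain ⟨m, L, hL⟩ := (Submodule.fg_iff_exists_fin_linearMap _ _).1 hK
  let π : (Fin n → R) →ₗ[R] S := e.symm.toLinearMap.comp K.mkQ
  have hπ : Function.Surjective π := e.symm.surjective.comp K.mkQ_surjective
  have hker : ∀ v, π v = 0 ↔ v ∈ K := fun v => by
    show e.symm (K.mkQ v) = 0 ↔ _
    rw [LinearEquiv.map_eq_zero_iff, Submodule.mkQ_apply, Submodule.Quotient.mk_eq_zero]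
  intro a
  choose a' ha' using fun i => hπ (a i)
  obtain ⟨x, hx⟩ := hv a'
  refine ⟨fun i => π (x i), fun i => ?_, fun y hy => funext fun i => ?_⟩
  · show π (x i) = a i + algebraMap R S f * π (x (i + 1))
    rw [← Algebra.smul_def, ← map_smul, ← ha' i, ← map_add, ← hx i]
  · choose y' hy' using fun i => hπ (y i)
    have hc : ∀ i, ∃ c, L c = (y' i - x i) - f • (y' (i + 1) - x (i + 1)) := fun i => by
      rw [← LinearMap.mem_range, hL, ← hker, map_sub, map_sub, map_smul, map_sub, hy', hy']
      have h1 := hy i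
      have h2 := congrArg π (hx i)
      rw [map_add, map_smul, ha'] at h2
      rw [← Algebra.smul_def] at h1
      rw [h1, h2, smul_sub]
      abel
    choose c hc using hc
    obtain ⟨b, hb⟩ := hv c
    have h0 := hv0 (fun i => (y' i - x i) - L (b i)) (fun i => by
      show (y' i - x i) - L (b i) = f • ((y' (i + 1) - x (i + 1)) - L (b (i + 1)))
      rw [hb i, map_add, map_smul, hc]
      simp only [smul_sub]
      abel) i
    rw [sub_eq_zero] at h0
    have h3 : π (y' i - x i) = 0 := (hker _).2 (hL ▸ ⟨b i, h0.symm⟩)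
    rw [map_sub, hy', sub_eq_zero] at h3
    exact h3

theorem clopBij_of_comp {A B C : Type u} [CommRing A] [CommRing B] [CommRing C] {φ : A →+* B} {ψ : B →+* C}
    {U : Set (PrimeSpectrum A)} (h : ClopBij (ψ.comp φ) U)
    (hψ : Function.Surjective (PrimeSpectrum.comap ψ)) : ClopBij φ U := by
  intro W hW
  obtain ⟨V, ⟨hV, hVe⟩, hu⟩ := h (PrimeSpectrum.comap ψ ⁻¹' W) (by
    rw [PrimeSpectrum.comap_comp]
    exact hW.preimage)
  rw [PrimeSpectrum.comap_comp] at hVe hu
  exact ⟨V, ⟨hV, hψ.preimage_injective hVe⟩, fun V₁ ⟨hV₁, e₁⟩ => hu V₁ ⟨hV₁, congrArg (PrimeSpectrum.comap ψ ⁻¹' ·) e₁⟩⟩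

/-- Clopen subsets of a finite algebra are those of its base change to the completion. -/
theorem clopBij_tensor {A : Type u} [CommRing A] (I : Ideal A) (hI : I.FG) [HenselianRing A I]
    (C : Type u) [CommRing C] [Algebra A C] [Module.Finite A C] [Algebra.FinitePresentation A C]
    (U : Set (PrimeSpectrum A)) (hU : IsOpen U) (hUc : IsCompact U) (hUI : ∀ x ∉ U, I ≤ x.asIdeal) :
    ClopBij (Algebra.TensorProduct.includeRight : C →ₐ[A] AdicCompletion I A ⊗[A] C).toRingHom
      (PrimeSpectrum.comap (algebraMap A C) ⁻¹' U) := by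
  haveI : Module.FinitePresentation A C := Module.FinitePresentation.of_finite_of_finitePresentation A C
  let Ah := AdicCompletion I A
  let D := Ah ⊗[A] C
  let J : Ideal C := I.map (algebraMap A C)
  haveI : HenselianRing C J := Hensel.henselianRing_of_isIntegral' I C
  have hclop : ClopBij (algebraMap C (AdicCompletion J C)) (PrimeSpectrum.comap (algebraMap A C) ⁻¹' U) := by
    refine clopBij_completion J (hI.map _) _ (hU.preimage (PrimeSpectrum.continuous_comap _)) ?_ ?_
    · obtain ⟨s, rfl⟩ := PrimeSpectrum.isCompact_isOpen_iff.1 ⟨hUc, hU⟩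
      classical
      refine (PrimeSpectrum.isCompact_isOpen_iff.2 ⟨s.image (algebraMap A C), ?_⟩).1
      rw [Finset.coe_image, Set.preimage_compl, PrimeSpectrum.preimage_comap_zeroLocus]
    · intro x hx
      exact Ideal.map_le_iff_le_comap.2 (hUI _ hx)
  have hle : ∀ n, I ^ n ≤ (J ^ n).comap (algebraMap A C) := fun n =>
    Ideal.le_comap_of_map_le (Ideal.map_pow _ _ _).le
  let hn : ∀ n, Ah →+* C ⧸ J ^ n := fun n =>
    (Ideal.quotientMap (J ^ n) (algebraMap A C) (hle n)).comp (AdicCompletion.evalₐ I n).toRingHom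
  have hfac : ∀ {m n : ℕ} (hmn : m ≤ n) (z : Ah),
      Ideal.Quotient.factor (Ideal.pow_le_pow_right hmn) (AdicCompletion.evalₐ I n z) = AdicCompletion.evalₐ I m z := by
    intro m n hmn z
    obtain ⟨z, rfl⟩ := AdicCompletion.mk_surjective I A z
    rw [AdicCompletion.evalₐ_mk, AdicCompletion.evalₐ_mk, Ideal.Quotient.factor_mk]
    refine Ideal.Quotient.eq.2 ?_
    have := (z.2 hmn).symm
    rwa [SModEq.sub_mem, smul_eq_mul, Ideal.mul_top] at this
  have hcompat : ∀ {m n : ℕ} (hmn : m ≤ n), (Ideal.Quotient.factorPow J hmn).comp (hn n) = hn m := by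
    intro m n hmn
    refine RingHom.ext fun z => ?_
    obtain ⟨a, ha⟩ := Ideal.Quotient.mk_surjective (AdicCompletion.evalₐ I n z)
    show Ideal.Quotient.factor (Ideal.pow_le_pow_right hmn)
        (Ideal.quotientMap (J ^ n) (algebraMap A C) (hle n) (AdicCompletion.evalₐ I n z)) =
      Ideal.quotientMap (J ^ m) (algebraMap A C) (hle m) (AdicCompletion.evalₐ I m z)
    rw [← hfac hmn, ← ha]
    rfl
  have hgeval : ∀ (n : ℕ) (z : Ah), AdicCompletion.evalₐ J n (AdicCompletion.liftRingHom J hn hcompat z) = hn n z :=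
    fun n z => AdicCompletion.evalₐ_liftRingHom ..
  let g : Ah →ₐ[A] AdicCompletion J C := { AdicCompletion.liftRingHom J hn hcompat with
    commutes' := fun a => AdicCompletion.ext_evalₐ fun n => by
      refine (hgeval n _).trans ?_
      rw [IsScalarTower.algebraMap_apply A C (AdicCompletion J C), eval_algebraMap]
      show Ideal.quotientMap (J ^ n) (algebraMap A C) (hle n) (AdicCompletion.evalₐ I n (algebraMap A Ah a)) = _
      rw [eval_algebraMap]
      exact Ideal.quotientMap_mk }
  let ε : D →ₐ[A] AdicCompletion J C :=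
    Algebra.TensorProduct.lift g (IsScalarTower.toAlgHom A C (AdicCompletion J C)) fun _ _ => mul_comm _ _
  let ι : C →ₐ[A] D := Algebra.TensorProduct.includeRight
  have hει : ε.toRingHom.comp ι.toRingHom = algebraMap C (AdicCompletion J C) := RingHom.ext fun c => by
    rw [RingHom.comp_apply]
    show Algebra.TensorProduct.lift g _ _ ((1 : Ah) ⊗ₜ[A] c) = _
    refine (Algebra.TensorProduct.lift_tmul ..).trans ?_
    rw [map_one, one_mul]
    rfl
  have hει' : ∀ c, ε (ι c) = algebraMap C (AdicCompletion J C) c := fun c => RingHom.congr_fun hει c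
  obtain ⟨r, fs, hfs⟩ := Submodule.fg_iff_exists_fin_generating_family.1 hI
  let fD : Fin r → D := fun i => algebraMap A D (fs i)
  have hID : Ideal.span (Set.range fD) = I.map (algebraMap A D) := by
    refine Eq.trans ?_ (congrArg (Ideal.map (algebraMap A D)) hfs)
    show _ = (Ideal.span (Set.range fs)).map (algebraMap A D)
    rw [Ideal.map_span, ← Set.range_comp]
    rfl
  haveI : IsAdicComplete (I.map (algebraMap A Ah)) Ah :=
    (IsAdicComplete.map_algebraMap_iff I Ah).2 (AdicCompletion.isAdicComplete hI)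
  have hDC : ∀ i, DC (fD i) := fun i => by
    show DC (algebraMap A D (fs i))
    rw [IsScalarTower.algebraMap_apply A Ah D]
    exact dc_finitePresentation (dc_of_mem _ (Ideal.mem_map_of_mem _ (hfs.le (Submodule.subset_span ⟨i, rfl⟩))))
  have hJD : ∀ (n : ℕ) (c : C), c ∈ J ^ n → ι c ∈ I.map (algebraMap A D) ^ n := fun n c hc => by
    have h1 := Ideal.mem_map_of_mem ι.toRingHom hc
    rw [Ideal.map_pow, Ideal.map_map] at h1
    rwa [show ι.toRingHom.comp (algebraMap A C) = algebraMap A D from ι.comp_algebraMap] at h1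
  have hkill : ∀ (n : ℕ) (d : D), d ∈ I.map (algebraMap A D) ^ n → AdicCompletion.evalₐ J n (ε d) = 0 := by
    intro n d hd
    have h1 := Ideal.mem_map_of_mem ((AdicCompletion.evalₐ J n).toRingHom.comp ε.toRingHom) hd
    have e : ((AdicCompletion.evalₐ J n).toRingHom.comp ε.toRingHom).comp (algebraMap A D) =
        (Ideal.Quotient.mk (J ^ n)).comp (algebraMap A C) := RingHom.ext fun a => by
      show AdicCompletion.evalₐ J n (ε (algebraMap A D a)) = _
      rw [AlgHom.commutes, IsScalarTower.algebraMap_apply A C (AdicCompletion J C), eval_algebraMap]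
      rfl
    rw [Ideal.map_pow, Ideal.map_map, e, ← Ideal.map_map] at h1
    have h2 : J.map (Ideal.Quotient.mk (J ^ n)) ^ n = ⊥ :=
      (Ideal.map_pow _ J n).symm.trans (Ideal.map_quotient_self _)
    exact (Ideal.mem_bot).1 (h2.le h1)
  have happrox : ∀ (n : ℕ) (d : D), ∃ c, d - ι c ∈ I.map (algebraMap A D) ^ n := by
    intro n d
    induction d using TensorProduct.induction_on with
    | zero => exact ⟨0, by simp⟩
    | tmul x c =>
      obtain ⟨a, ha⟩ := Ideal.Quotient.mk_surjective (AdicCompletion.evalₐ I n x)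
      have h1 := mem_map_pow_of_eval_eq_zero I hI n (x := x - algebraMap A Ah a)
        (by rw [map_sub, eval_algebraMap, ha, sub_self])
      have h2 := Ideal.mem_map_of_mem (algebraMap Ah D) h1
      rw [Ideal.map_map, ← IsScalarTower.algebraMap_eq, Ideal.map_pow] at h2
      refine ⟨a • c, ?_⟩
      convert Ideal.mul_mem_right (ι c) _ h2 using 1
      show x ⊗ₜ[A] c - ι (a • c) = (x - algebraMap A Ah a) ⊗ₜ[A] (1 : C) * ((1 : Ah) ⊗ₜ[A] c)
      rw [Algebra.TensorProduct.tmul_mul_tmul, mul_one, one_mul, TensorProduct.sub_tmul]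
      show _ - (1 : Ah) ⊗ₜ[A] (a • c) = _
      rw [← TensorProduct.smul_tmul, Algebra.smul_def, mul_one]
    | add x y hx hy =>
      obtain ⟨c, hc⟩ := hx
      obtain ⟨c', hc'⟩ := hy
      refine ⟨c + c', ?_⟩
      convert add_mem hc hc' using 1
      rw [map_add]; ring
  have hsurj : Function.Surjective ε := by
    intro x
    choose c hc using fun n => Ideal.Quotient.mk_surjective (AdicCompletion.evalₐ J n x)
    obtain ⟨s, hs⟩ := exists_forall_sub_mem fD hDC (fun n => ι (c n)) fun n => by
      rw [hID, ← map_sub]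
      refine hJD n _ (Ideal.Quotient.eq.1 ?_)
      rw [hc n]
      obtain ⟨z, rfl⟩ := AdicCompletion.mk_surjective J C x
      have h1 := congrArg (Ideal.Quotient.factor (Ideal.pow_le_pow_right (Nat.le_succ n))) (hc (n + 1))
      rw [Ideal.Quotient.factor_mk] at h1
      rw [h1, AdicCompletion.evalₐ_mk, AdicCompletion.evalₐ_mk, Ideal.Quotient.factor_mk]
      refine Ideal.Quotient.eq.2 ?_
      have h2 := (z.2 (Nat.le_succ n)).symm
      rwa [SModEq.sub_mem, smul_eq_mul, Ideal.mul_top] at h2
    refine ⟨s, AdicCompletion.ext_evalₐ fun n => ?_⟩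
    have h1 := hkill n _ (hID ▸ hs n)
    rw [map_sub, map_sub, sub_eq_zero] at h1
    rw [h1, hει', eval_algebraMap, hc n]
  have hnil : ∀ d, ε d = 0 → IsNilpotent d := fun d hd => by
    refine isNilpotent_of_forall_mem_pow fD hDC fun n => ?_
    rw [hID]
    obtain ⟨c, hc⟩ := happrox n d
    have h1 := hkill n _ hc
    rw [map_sub, map_sub, hd, map_zero, zero_sub, neg_eq_zero, hει', eval_algebraMap,
      Ideal.Quotient.eq_zero_iff_mem] at h1
    have := add_mem hc (hJD n c h1)
    rwa [sub_add_cancel] at this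
  refine clopBij_of_comp (ψ := ε.toRingHom) ?_ ?_
  · rw [hει]; exact hclop
  · intro x
    have hk : RingHom.ker ε.toRingHom ≤ x.asIdeal := fun d hd => by
      obtain ⟨n, hn⟩ := hnil d hd
      exact x.2.mem_of_pow_mem n (hn ▸ x.asIdeal.zero_mem)
    exact ⟨⟨x.asIdeal.map ε.toRingHom, Ideal.map_isPrime_of_surjective hsurj hk⟩, PrimeSpectrum.ext (by
      show (x.asIdeal.map ε.toRingHom).comap ε.toRingHom = x.asIdeal
      rw [Ideal.comap_map_of_surjective ε.toRingHom hsurj, ← RingHom.ker_eq_comap_bot, sup_eq_left.2 hk])⟩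

end Groth.Agent.GabberRigSec
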