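import Groth.Agent.GabberRigSec.Monodromy
import Groth.Agent.GabberRigSec.Comp
import Groth.Agent.EtFound.ClopenDescend
import Groth.Agent.Approx.IntegralLimit

/-! Integral covers of the open part of a henselian pair have connected completions. -/

set_option autoImplicit false
set_option linter.style.haveILetI false
universe u

open CategoryTheory CategoryTheory.Limits AlgebraicGeometry TopologicalSpace Opposite
open scoped TensorProduct

namespace Groth.Agent.GabberRigSec

set_option backward.isDefEq.respectTransparency false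
set_option backward.isDefEq.respectTransparency.types false

variable {A : Type u} [CommRing A] (I : Ideal A) (U : (Spec (CommRingCat.of A)).Opens)

/-- The completion morphism. -/
noncomputable abbrev compl : Spec (CommRingCat.of (AdicCompletion I A)) ⟶ Spec (CommRingCat.of A) :=
  Spec.map (CommRingCat.ofHom (algebraMap A (AdicCompletion I A)))

/-- The completed open part, over the base. -/
noncomputable abbrev openToBase : (compl I ⁻¹ᵁ U : Scheme.{u}) ⟶ Spec (CommRingCat.of A) :=
  (compl I ⁻¹ᵁ U).ι ≫ compl I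

variable {I U} (hI : I.FG) [HenselianRing A I] (hU : IsCompact (U : Set (Spec (CommRingCat.of A))))
  (hUI : ∀ x : Spec (CommRingCat.of A), x ∉ U → I ≤ x.asIdeal)
include hI hU hUI

/-- Clopen subsets over a finite stage, and nonemptiness. -/
theorem stage_aux (C : Type u) [CommRing C] [Algebra A C] [Module.Finite A C] [Algebra.FinitePresentation A C]
    (Q : Scheme.{u}) (p : Q ⟶ Spec (CommRingCat.of C)) (q : Q ⟶ (compl I ⁻¹ᵁ U : Scheme.{u}))
    (h : IsPullback p q (Spec.map (CommRingCat.ofHom (algebraMap A C))) (openToBase I U)) :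
    (∀ S : Set Q, IsClopen S → ∃ V : Set (PrimeSpectrum C),
      IsOpen V ∧ IsOpen ((PrimeSpectrum.comap (algebraMap A C) ⁻¹' (U.carrier : Set (PrimeSpectrum A))) \ V) ∧
        ∀ x : Q, x ∈ S ↔ p x ∈ V) ∧
    ((PrimeSpectrum.comap (algebraMap A C) ⁻¹' (U.carrier : Set (PrimeSpectrum A))).Nonempty → Nonempty Q) := by
  let f := Spec.map (CommRingCat.ofHom (algebraMap A C))
  let ι : C →+* AdicCompletion I A ⊗[A] C :=
    (Algebra.TensorProduct.includeRight : C →ₐ[A] AdicCompletion I A ⊗[A] C).toRingHom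
  let UC : Set (PrimeSpectrum C) := PrimeSpectrum.comap (algebraMap A C) ⁻¹' (U.carrier : Set (PrimeSpectrum A))
  let θ : Q ⟶ Spec (CommRingCat.of (AdicCompletion I A ⊗[A] C)) :=
    h.isoPullback.hom ≫ (pullbackLeftPullbackSndIso f (compl I) (compl I ⁻¹ᵁ U).ι).inv ≫
      pullback.fst (pullback.snd f (compl I)) (compl I ⁻¹ᵁ U).ι ≫
      (pullbackSymmetry f (compl I)).hom ≫ (pullbackSpecIso A (AdicCompletion I A) C).hom
  haveI : IsOpenImmersion θ := inferInstance
  have hθ : θ ≫ Spec.map (CommRingCat.ofHom ι) = p := by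
    have e : (pullbackSymmetry f (compl I)).hom ≫ (pullbackSpecIso A (AdicCompletion I A) C).hom ≫
        Spec.map (CommRingCat.ofHom ι) = pullback.fst f (compl I) :=
      (congrArg ((pullbackSymmetry f (compl I)).hom ≫ ·) (pullbackSpecIso_hom_snd A (AdicCompletion I A) C)).trans
        (pullbackSymmetry_hom_comp_snd f (compl I))
    simp only [θ, Category.assoc]
    rw [e]
    exact (congrArg (h.isoPullback.hom ≫ ·) (pullbackLeftPullbackSndIso_inv_fst f (compl I) _)).trans
      h.isoPullback_hom_fst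
  have hθx : ∀ x : Q, PrimeSpectrum.comap ι (θ x) = p x := fun x =>
    comp_eq_apply (k := p) (l := 𝟙 _) (hθ.trans (Category.comp_id p).symm) x
  have hrange : Set.range θ = PrimeSpectrum.comap ι ⁻¹' UC := by
    apply Set.Subset.antisymm
    · rintro _ ⟨x, rfl⟩
      show PrimeSpectrum.comap (algebraMap A C) (PrimeSpectrum.comap ι (θ x)) ∈ (U.carrier : Set (PrimeSpectrum A))
      rw [hθx]
      have e := comp_eq_apply h.w x
      show f (p x) ∈ U
      rw [e, Scheme.Hom.comp_apply]
      exact (q x).2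
    · intro d hd
      let e := pullbackSymmetry f (compl I) ≪≫ pullbackSpecIso A (AdicCompletion I A) C
      let y := e.inv d
      have hy : e.hom y = d := (Scheme.Hom.comp_apply _ _ _).symm.trans
        (congrArg (fun φ : Spec (CommRingCat.of (AdicCompletion I A ⊗[A] C)) ⟶ _ => φ d) e.inv_hom_id)
      have he : e.hom ≫ Spec.map (CommRingCat.ofHom ι) = pullback.fst f (compl I) := by
        simp only [e, Iso.trans_hom, Category.assoc]
        exact (congrArg ((pullbackSymmetry f (compl I)).hom ≫ ·) (pullbackSpecIso_hom_snd A (AdicCompletion I A) C)).trans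
          (pullbackSymmetry_hom_comp_snd f (compl I))
      have h1 : pullback.fst f (compl I) y = PrimeSpectrum.comap ι d := by
        refine (comp_eq_apply (k := pullback.fst f (compl I)) (l := 𝟙 _) (he.trans (Category.comp_id _).symm) y).symm.trans ?_
        rw [hy]
        rfl
      have h2 : pullback.snd f (compl I) y ∈ compl I ⁻¹ᵁ U := by
        show compl I (pullback.snd f (compl I) y) ∈ U
        rw [← comp_eq_apply (pullback.condition (f := f) (g := compl I)) y, h1]
        exact hd
      obtain ⟨z, hz, -⟩ := Scheme.Pullback.exists_preimage_pullback (f := pullback.snd f (compl I))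
        (g := (compl I ⁻¹ᵁ U).ι) y ⟨_, h2⟩ rfl
      let γ := h.isoPullback.hom ≫ (pullbackLeftPullbackSndIso f (compl I) (compl I ⁻¹ᵁ U).ι).inv
      refine ⟨(inv γ) z, ?_⟩
      have e2 : inv γ ≫ θ = pullback.fst (pullback.snd f (compl I)) (compl I ⁻¹ᵁ U).ι ≫ e.hom := by
        rw [IsIso.inv_comp_eq]
        simp only [θ, γ, e, Category.assoc, Iso.trans_hom]
      rw [comp_eq_apply e2 z, hz, hy]
  have hbij : Rig7.ClopBij ι UC :=
    clopBij_tensor I hI C (U.carrier : Set (PrimeSpectrum A)) U.2 hU hUI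
  refine ⟨fun S hS => ?_, fun hne => ?_⟩
  · have hS' : Rig7.RelClopen (PrimeSpectrum.comap ι ⁻¹' UC) (θ '' S) := by
      refine ⟨?_, θ.isOpenEmbedding.isOpenMap _ hS.2, ?_⟩
      · rw [← hrange]; exact Set.image_subset_range _ _
      · have h' := θ.isOpenEmbedding.isOpenMap _ hS.compl.2
        rw [Set.image_compl_eq_range_sdiff_image θ.isOpenEmbedding.injective, hrange] at h'
        exact h'
    obtain ⟨V, ⟨hV, hVe⟩, -⟩ := hbij _ hS'
    refine ⟨V, hV.2.1, hV.2.2, fun x => ?_⟩
    rw [← hθx, ← θ.isOpenEmbedding.injective.mem_set_image (s := S)]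
    exact (Set.ext_iff.1 hVe (θ x)).symm
  · by_contra hQ
    rw [not_nonempty_iff] at hQ
    have hem : PrimeSpectrum.comap ι ⁻¹' UC = ∅ := by rw [← hrange, Set.range_eq_empty]
    have hemp : IsOpen (∅ : Set (PrimeSpectrum C)) := isOpen_empty
    have hUCo : IsOpen UC := U.2.preimage (PrimeSpectrum.continuous_comap _)
    obtain ⟨V, -, hu⟩ := hbij ∅ ⟨Set.empty_subset _, isOpen_empty, by rw [hem, Set.sdiff_empty]; exact isOpen_empty⟩
    have h1 := hu ∅ ⟨⟨Set.empty_subset _, hemp, by rw [Set.sdiff_empty]; exact hUCo⟩, Set.preimage_empty⟩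
    have h2 := hu UC ⟨⟨subset_rfl, hUCo, by rw [sdiff_self]; exact hemp⟩, hem⟩
    exact hne.ne_empty (h2.trans h1.symm)

/-- The same for a finite scheme of finite presentation over the base. -/
theorem stage (X : Scheme.{u}) (π : X ⟶ Spec (CommRingCat.of A)) [IsFinite π] [LocallyOfFinitePresentation π] :
    (∀ S : Set ↥(pullback π (openToBase I U)), IsClopen S → ∃ V : Set X,
      IsOpen V ∧ IsOpen ((π ⁻¹' (U : Set (Spec (CommRingCat.of A)))) \ V) ∧
        ∀ x, x ∈ S ↔ pullback.fst π (openToBase I U) x ∈ V) ∧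
    ((π ⁻¹' (U : Set (Spec (CommRingCat.of A)))).Nonempty → Nonempty ↥(pullback π (openToBase I U))) := by
  haveI : IsAffine X := isAffine_of_isAffineHom π
  let e : X ≅ Spec Γ(X, ⊤) := X.isoSpec
  obtain ⟨φ, hφ⟩ := Spec.map_surjective (e.inv ≫ π)
  let C : Type u := Γ(X, ⊤)
  letI : Algebra A C := φ.hom.toAlgebra
  have hf : Spec.map (CommRingCat.ofHom (algebraMap A C)) = e.inv ≫ π := hφ
  haveI : Module.Finite A C := by
    have h1 : IsFinite (Spec.map φ) := by rw [hφ]; infer_instance
    exact (IsFinite.SpecMap_iff φ).1 h1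
  haveI : Algebra.FinitePresentation A C := by
    have h1 : LocallyOfFinitePresentation (Spec.map φ) := by rw [hφ]; infer_instance
    exact (LocallyOfFinitePresentation.SpecMap_iff φ).1 h1
  have hp : IsPullback (pullback.fst π (openToBase I U) ≫ e.hom) (pullback.snd π (openToBase I U))
      (Spec.map (CommRingCat.ofHom (algebraMap A C))) (openToBase I U) := by
    refine (IsPullback.of_hasPullback π (openToBase I U)).of_iso (Iso.refl _) e (Iso.refl _) (Iso.refl _) ?_ ?_ ?_ ?_
    · simp
    · simp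
    · simp [hf]
    · simp
  obtain ⟨h1, h2⟩ := stage_aux hI hU hUI C _ _ _ hp
  have hπ : ∀ x : X, PrimeSpectrum.comap (algebraMap A C) (e.hom x) = π x := fun x => by
    exact comp_eq_apply (f := e.hom) (h := Spec.map (CommRingCat.ofHom (algebraMap A C))) (k := π) (l := 𝟙 _)
      ((congrArg (e.hom ≫ ·) hf).trans ((Iso.hom_inv_id_assoc e π).trans (Category.comp_id π).symm)) x
  refine ⟨fun S hS => ?_, fun hne => h2 ?_⟩
  · obtain ⟨V, hV, hV', hVS⟩ := h1 S hS
    refine ⟨e.hom ⁻¹' V, hV.preimage e.hom.continuous, ?_, fun x => ?_⟩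
    · convert hV'.preimage e.hom.continuous using 1
      ext x
      simp only [Set.mem_sdiff, Set.mem_preimage]
      rw [hπ]
      rfl
    · exact (hVS x).trans (by rw [Scheme.Hom.comp_apply]; exact Iff.rfl)
  · obtain ⟨x, hx⟩ := hne
    exact ⟨e.hom x, Eq.mpr (congrArg (· ∈ U.carrier) (hπ x)) hx⟩

/-- A connected integral scheme over the base stays connected and nonempty over the completed open part. -/
theorem connected_baseChange {W₀ : Scheme.{u}} [IsIntegral W₀] (ω : W₀ ⟶ Spec (CommRingCat.of A)) [IsIntegralHom ω]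
    (hgen : ω (genericPoint W₀) ∈ U) :
    PreconnectedSpace ↥(pullback ω (openToBase I U)) ∧ Nonempty ↥(pullback ω (openToBase I U)) := by
  let q := openToBase I U
  haveI : CompactSpace ↥(compl I ⁻¹ᵁ U : Scheme.{u}) := isCompact_iff_compactSpace.mp
    (QuasiCompact.isCompact_preimage (f := compl I) _ U.2 hU)
  obtain ⟨J, _, _, _, DO, c, hc, hfin, ⟨e⟩⟩ := Approx.exists_isLimit_finite_fp ω
  let D := DO ⋙ Over.pullback q ⋙ Over.forget _
  let cc := (Over.pullback q ⋙ Over.forget _).mapCone c
  haveI : IsConnected Jᵒᵖ := IsCofiltered.isConnected Jᵒᵖ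
  have hcc : IsLimit cc :=
    isLimitOfPreserves (Over.forget _) (isLimitOfPreserves (Over.pullback q) hc)
  haveI hfinD : ∀ i, IsFinite ((Over.pullback q).obj (DO.obj i)).hom := fun i => by
    haveI := (hfin i).1
    show IsFinite (pullback.snd (DO.obj i).hom q)
    infer_instance
  haveI : ∀ {i j : Jᵒᵖ} (f : i ⟶ j), IsAffineHom (D.map f) := fun {i j} f => by
    haveI := hfinD i
    haveI := hfinD j
    haveI : IsAffineHom (((Over.pullback q).map (DO.map f)).left ≫ ((Over.pullback q).obj (DO.obj j)).hom) := by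
      rw [Over.w]; infer_instance
    exact MorphismProperty.of_postcomp @IsAffineHom ((Over.pullback q).map (DO.map f)).left
      ((Over.pullback q).obj (DO.obj j)).hom (inferInstance : IsSeparated _) inferInstance
  haveI : ∀ i, CompactSpace (D.obj i) := fun i => by
    haveI := hfinD i; exact QuasiCompact.compactSpace_of_compactSpace ((Over.pullback q).obj (DO.obj i)).hom
  haveI : QuasiSeparatedSpace ↥(compl I ⁻¹ᵁ U : Scheme.{u}) := quasiSeparatedSpace_of_quasiSeparated (compl I ⁻¹ᵁ U).ι
  haveI : ∀ i, QuasiSeparatedSpace (D.obj i) := fun i => by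
    haveI := hfinD i; exact quasiSeparatedSpace_of_quasiSeparated ((Over.pullback q).obj (DO.obj i)).hom
  let δ : ∀ i, W₀ ⟶ (DO.obj i).left := fun i => (e.inv ≫ c.π.app i).left
  let ε : cc.pt ⟶ pullback ω q := ((Over.pullback q).map e.hom).left
  haveI : IsIso ε := inferInstanceAs (IsIso ((Over.forget _).map ((Over.pullback q).map e.hom)))
  have hsurj : Function.Surjective ε := ε.homeomorph.surjective
  have hδ : ∀ i, δ i ≫ (DO.obj i).hom = ω := fun i => Over.w (e.inv ≫ c.π.app i)
  have hcomm : ∀ i, ε ≫ pullback.fst ω q ≫ δ i = cc.π.app i ≫ pullback.fst (DO.obj i).hom q := fun i => by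
    have h1 : ((Over.pullback q).map (e.hom)).left ≫ pullback.fst ω q = pullback.fst c.pt.hom q ≫ e.hom.left := by
      simp [Over.pullback]
    have h2 : ((Over.pullback q).map (c.π.app i)).left ≫ pullback.fst (DO.obj i).hom q =
        pullback.fst c.pt.hom q ≫ (c.π.app i).left := by
      simp [Over.pullback]
    refine ((Category.assoc _ _ _).symm.trans (congrArg (· ≫ δ i) h1)).trans (Eq.trans ?_ h2.symm)
    rw [Category.assoc]
    congr 1
    show e.hom.left ≫ (e.inv ≫ c.π.app i).left = _
    rw [← Over.comp_left, Iso.hom_inv_id_assoc]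
  constructor
  · rw [preconnectedSpace_iff_clopen]
    intro V hV
    obtain ⟨i, S, hS, hSV⟩ := ClopenDescend.exists_clopen_descend D cc hcc (fun _ => Set.univ)
      (fun _ => isClosed_univ) (fun _ => Set.mapsTo_univ _ _) Set.univ (fun s => by simp)
      ((fun s : (Set.univ : Set cc.pt) => ε s.1) ⁻¹' V) (hV.preimage (ε.continuous.comp continuous_subtype_val))
    haveI := (hfin i).1
    haveI := (hfin i).2
    have hS' : IsClopen ((fun x : D.obj i => (⟨x, trivial⟩ : (Set.univ : Set (D.obj i)))) ⁻¹' S) :=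
      hS.preimage (continuous_id.subtype_mk _)
    obtain ⟨Vo, hVo, hVo', hmem⟩ := (stage hI hU hUI (DO.obj i).left (DO.obj i).hom).1 _ hS'
    let W : Set W₀ := ω ⁻¹' (U : Set (Spec (CommRingCat.of A)))
    have hWo : IsOpen W := U.2.preimage ω.continuous
    have hgenW : genericPoint W₀ ∈ W := hgen
    have hconst : ∀ w ∈ W, (δ i w ∈ Vo ↔ δ i (genericPoint W₀) ∈ Vo) := by
      intro w hw
      constructor
      · exact fun hwV => ((genericPoint_spec W₀).specializes (Set.mem_univ w)).mem_open (hVo.preimage (δ i).continuous) hwV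
      · intro hgV
        by_contra hwV
        have hw' : w ∈ δ i ⁻¹' ((DO.obj i).hom ⁻¹' (U : Set (Spec (CommRingCat.of A))) \ Vo) := by
          refine ⟨?_, hwV⟩
          show (DO.obj i).hom (δ i w) ∈ U
          rw [← Scheme.Hom.comp_apply, hδ]
          exact hw
        exact (((genericPoint_spec W₀).specializes (Set.mem_univ w)).mem_open (hVo'.preimage (δ i).continuous) hw').2 hgV
    have key : ∀ y : ↥(pullback ω q), (y ∈ V ↔ δ i (genericPoint W₀) ∈ Vo) := fun y => by
      obtain ⟨s, rfl⟩ := hsurj y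
      refine Iff.trans ?_ (hconst (pullback.fst ω q (ε s)) ?_)
      · refine ((hSV ⟨s, trivial⟩).symm.trans (hmem (cc.π.app i s))).trans ?_
        have e3 := congrArg (fun φ : cc.pt ⟶ (DO.obj i).left => φ s) (hcomm i)
        simp only [Scheme.Hom.comp_apply] at e3
        rw [e3]
        rfl
      · show ω (pullback.fst ω q (ε s)) ∈ U
        rw [comp_eq_apply (pullback.condition (f := ω) (g := q)) (ε s)]
        show compl I ((compl I ⁻¹ᵁ U).ι _) ∈ U
        exact (pullback.snd ω q (ε s)).2
    by_cases hg : δ i (genericPoint W₀) ∈ Vo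
    · exact Or.inr (Set.eq_univ_of_forall fun y => (key y).2 hg)
    · exact Or.inl (Set.eq_empty_of_forall_notMem fun y hy => hg ((key y).1 hy))
  · haveI : ∀ i, Nonempty (D.obj i) := fun i => by
      haveI := (hfin i).1
      haveI := (hfin i).2
      refine (stage hI hU hUI (DO.obj i).left (DO.obj i).hom).2 ⟨δ i (genericPoint W₀), ?_⟩
      show (DO.obj i).hom (δ i (genericPoint W₀)) ∈ U
      rw [← Scheme.Hom.comp_apply, hδ]
      exact hgen
    obtain ⟨s⟩ := Scheme.nonempty_of_isLimit D cc hcc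
    exact ⟨ε s⟩

/-- Every point of the open part has an absolutely normal integral cover with connected nonempty completion. -/
theorem goodCovers : GoodCovers (compl I ∣_ U) := by
  intro x
  let Is := Scheme.IdealSheafData.vanishingIdeal ⟨closure {x.1}, isClosed_closure⟩
  let Y := Is.subscheme
  let ι' : Y ⟶ Spec (CommRingCat.of A) := Is.subschemeι
  have hr : Set.range ι' = closure {x.1} := by
    show Set.range Is.subschemeι = _
    rw [Is.range_subschemeι]; simp [Is]
  obtain ⟨y, hy⟩ : x.1 ∈ Set.range ι' := hr ▸ subset_closure rfl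
  have hygen : ∀ y' : Y, y ⤳ y' := fun y' => ι'.isEmbedding.isInducing.specializes_iff.1 (by
    rw [hy, specializes_iff_mem_closure, ← hr]; exact ⟨y', rfl⟩)
  haveI : PreirreducibleSpace Y := by
    refine ⟨?_⟩
    intro O O' hO hO' hq hq'
    obtain ⟨q₁, -, hq₁⟩ := hq
    obtain ⟨q₂, -, hq₂⟩ := hq'
    exact ⟨y, Set.mem_univ _, (hygen q₁).mem_open hO hq₁, (hygen q₂).mem_open hO' hq₂⟩
  haveI : IrreducibleSpace Y := { toNonempty := ⟨y⟩ }
  haveI : AlgebraicGeometry.IsReduced Y := inferInstance
  haveI : AlgebraicGeometry.IsIntegral Y := isIntegral_of_irreducibleSpace_of_isReduced Y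
  haveI : QuasiSeparatedSpace Y := quasiSeparatedSpace_of_quasiSeparated ι'
  obtain ⟨W₀, ω', hWi, hω', hac, hN, hgen'⟩ := AbsNormal.exists_absolute Y
  let ω : W₀ ⟶ Spec (CommRingCat.of A) := ω' ≫ ι'
  haveI : IsIntegralHom ω := inferInstance
  have hgen : ω (genericPoint W₀) = x.1 := by
    show ι' (ω' (genericPoint W₀)) = x.1
    rw [hgen']
    refine Eq.trans (congrArg ι' ?_) hy
    exact ((genericPoint_spec Y).specializes (Set.mem_univ y)).antisymm (hygen _) |>.eq
  have hgU : ω (genericPoint W₀) ∈ U := hgen ▸ x.2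
  let W : Scheme.{u} := (ω ⁻¹ᵁ U : Scheme.{u})
  haveI : Nonempty W := ⟨⟨genericPoint W₀, hgU⟩⟩
  haveI : IsIntegral W := isIntegral_of_isOpenImmersion (ω ⁻¹ᵁ U).ι
  have hg : (ω ⁻¹ᵁ U).ι (genericPoint W) = genericPoint W₀ := genericPoint_eq_of_isOpenImmersion (ω ⁻¹ᵁ U).ι
  let E := ((ω ⁻¹ᵁ U).stalkIso (genericPoint W)).trans (W₀.presheaf.stalkCongr (.of_eq hg))
  haveI : IsSepClosed W.functionField := by
    haveI : IsAlgClosed W.functionField := IsAlgClosed.of_ringEquiv W₀.functionField _ E.commRingCatIsoToRingEquiv.symm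
    infer_instance
  obtain ⟨hpc, hne⟩ := connected_baseChange hI hU hUI ω hgU
  let T : (Spec (CommRingCat.of (AdicCompletion I A))).Opens := compl I ⁻¹ᵁ U
  let b : pullback ω (openToBase I U) ⟶ W :=
    IsOpenImmersion.lift (ω ⁻¹ᵁ U).ι (pullback.fst _ _) (by
      rw [(ω ⁻¹ᵁ U).range_ι]
      rintro _ ⟨p, rfl⟩
      show ω (pullback.fst ω (openToBase I U) p) ∈ U
      rw [comp_eq_apply (pullback.condition (f := ω) (g := openToBase I U)) p]
      exact (pullback.snd ω (openToBase I U) p).2)
  let m : pullback ω (openToBase I U) ⟶ pullback (ω ∣_ U) (compl I ∣_ U) :=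
    pullback.lift b (pullback.snd _ _) (by
      rw [← cancel_mono U.ι, Category.assoc, Category.assoc, morphismRestrict_ι, morphismRestrict_ι,
        ← Category.assoc b, IsOpenImmersion.lift_fac]
      exact pullback.condition)
  let m' : pullback (ω ∣_ U) (compl I ∣_ U) ⟶ pullback ω (openToBase I U) :=
    pullback.lift (pullback.fst _ _ ≫ (ω ⁻¹ᵁ U).ι) (pullback.snd _ _) (by
      show (_ ≫ _) ≫ ω = _ ≫ (compl I ⁻¹ᵁ U).ι ≫ compl I
      rw [Category.assoc, ← morphismRestrict_ι, pullback.condition_assoc, morphismRestrict_ι])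
  have hm : m' ≫ m = 𝟙 _ := by
    apply pullback.hom_ext
    · rw [Category.assoc, pullback.lift_fst, Category.id_comp, ← cancel_mono (ω ⁻¹ᵁ U).ι, Category.assoc,
        IsOpenImmersion.lift_fac, pullback.lift_fst]
    · rw [Category.assoc, pullback.lift_snd, pullback.lift_snd, Category.id_comp]
  have hms : Function.Surjective m := fun z => ⟨m' z, by
    rw [← Scheme.Hom.comp_apply, hm]; rfl⟩
  refine ⟨W, ω ∣_ U, inferInstance, inferInstance, inferInstance, fun w => ?_, Subtype.ext ?_,
    ⟨by rw [← hms.range_eq]; exact isPreconnected_range m.continuous⟩, hne.map m⟩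
  · haveI := hN ((ω ⁻¹ᵁ U).ι w)
    exact IsIntegrallyClosed.of_equiv ((ω ⁻¹ᵁ U).stalkIso w).commRingCatIsoToRingEquiv.symm
  · refine Eq.trans ?_ hgen
    rw [← hg]
    exact comp_eq_apply (morphismRestrict_ι ω U) (genericPoint W)

end Groth.Agent.GabberRigSec
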