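import Groth.Agent.GabberRigSec.Monodromy
import Groth.Agent.EtFound.GabberH0

/-!
Global sections of etale sheaves along morphisms with connected integral traces.
-/

set_option autoImplicit false
set_option linter.style.haveILetI false

universe u

open CategoryTheory CategoryTheory.Limits AlgebraicGeometry Opposite TopologicalSpace Topology

namespace Groth.Agent.GabberRigSec

set_option backward.isDefEq.respectTransparency.types false

open AbLocEq GabberH0

variable {X T : Scheme.{u}} (g : T ⟶ X) [EtCoh.BCCont g] (F : EtCoh.Ab X)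

/-- The base change of the map to the final object. -/
noncomputable abbrev toT' (V : X.Etale) : (EtCoh.bc g).obj V ⟶ (EtCoh.bc g).obj (EtCoh.top X) :=
  (EtCoh.bc g).map ((EtCore.topIsTerminal X).from V)

theorem eq_toT' {V : X.Etale} (m : (EtCoh.bc g).obj V ⟶ (EtCoh.bc g).obj (EtCoh.top X)) : m = toT' g V :=
  (cancel_mono (EtCore.bcTopIso g).hom).1 ((EtCore.topIsTerminal T).hom_ext _ _)

variable (s : ((EtCoh.pull g).obj F).obj.obj (op ((EtCoh.bc g).obj (EtCoh.top X))))

/-- Near every point of `T` the section comes from an affine etale scheme. -/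
theorem exists_good (t : T) :
    ∃ (V : X.Etale) (a : F.obj.obj (op V)) (z : ((EtCoh.bc g).obj V).left)
      (M : Set ((EtCoh.bc g).obj V).left), IsAffine V.left ∧ IsOpen M ∧ IsCompact M ∧ z ∈ M ∧
        ((EtCoh.bc g).obj V).hom z = t ∧
        ∀ z' ∈ M, AEq ((EtCoh.pull g).obj F).obj (up g F V a)
          (((EtCoh.pull g).obj F).obj.map (toT' g V).op s) z' := by
  let G := (EtCoh.pull g).obj F
  obtain ⟨V, a, z₀, m, hz₀, h⟩ := exists_aEq_up g F (G.obj.map (EtCore.bcTopIso g).inv.op s) t
  rw [mapP, eq_toT' g (m ≫ (EtCore.bcTopIso g).inv)] at h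
  obtain ⟨A, hA, hvA, -⟩ := exists_isAffineOpen_mem_and_subset (X := V.left) (x := pr g V z₀)
    (U := ⊤) trivial
  let V' : X.Etale := MorphismProperty.Over.mk ⊤ (A.ι ≫ V.hom) (by
    haveI : Etale V.hom := V.prop
    exact inferInstanceAs (Etale (A.ι ≫ V.hom)))
  let m' : V' ⟶ V := MorphismProperty.Over.homMk A.ι rfl
  obtain ⟨z, hzv, hzp⟩ := Scheme.exists_preimage_of_isPullback (EtCoh.isPullback_bc_map g m') z₀
    (⟨pr g V z₀, hvA⟩ : V'.left) rfl
  let O : Set ((EtCoh.bc g).obj V').left :=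
    {z' | AEq G.obj (up g F V a) (G.obj.map (toT' g V).op s) (((EtCoh.bc g).map m').left z')}
  have hOo : IsOpen O := (isOpen_aEq (P := G.obj) (up g F V a) (G.obj.map (toT' g V).op s)).preimage
    ((EtCoh.bc g).map m').left.continuous
  have hzO : z ∈ O := show AEq G.obj _ _ (((EtCoh.bc g).map m').left z) from hzv.symm ▸ h
  obtain ⟨M, hM, hzM, hMO⟩ := exists_isAffineOpen_mem_and_subset (X := ((EtCoh.bc g).obj V').left) (x := z)
    (U := ⟨O, hOo⟩) hzO
  refine ⟨V', F.obj.map m'.op a, z, M, hA, M.isOpen, hM.isCompact, hzM, ?_, fun z' hz' => ?_⟩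
  · have e := comp_eq_apply (f := ((EtCoh.bc g).map m').left) (h := ((EtCoh.bc g).obj V).hom)
      (k := ((EtCoh.bc g).obj V').hom) (l := 𝟙 T)
      ((MorphismProperty.Over.w ((EtCoh.bc g).map m')).trans (Category.comp_id _).symm) z
    rw [hzv, hz₀] at e
    exact e.symm
  · have h2 := (show AEq G.obj _ _ (((EtCoh.bc g).map m').left z') from hMO hz').map ((EtCoh.bc g).map m')
    rwa [← up_map, mapP, eq_toT' g ((EtCoh.bc g).map m' ≫ toT' g V)] at h2

omit s

theorem bijective_unit [CompactSpace T] [CompactSpace X] [QuasiSeparatedSpace X] (hW : GoodCovers g) :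
    Function.Bijective (((EtCoh.pullPushAdj g).unit.app F).hom.app (op (EtCoh.top X))) := by
  classical
  have hspec : ∀ x : X, ∃ t : T, x ⤳ g t := fun x => by
    obtain ⟨W, ω, _, _, -, -, hgen, -, ⟨p⟩⟩ := hW x
    refine ⟨pullback.snd ω g p, ?_⟩
    rw [← comp_eq_apply (pullback.condition (f := ω) (g := g)) p, ← hgen]
    exact ((genericPoint_spec W).specializes (Set.mem_univ _)).map ω.continuous
  constructor
  · intro a b hab
    refine eq_of_aEq F fun x => ?_
    obtain ⟨t, ht⟩ := hspec ((EtCoh.top X).hom x)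
    have ht' : x ⤳ (show (EtCoh.top X).left from g t) := ht
    refine ht'.mem_open (isOpen_aEq a b) ?_
    obtain ⟨z, hz, -⟩ := Scheme.Pullback.exists_preimage_pullback (f := (EtCoh.top X).hom) (g := g)
      (show (EtCoh.top X).left from g t) t rfl
    refine hz ▸ aEq_of_up g F ?_
    rw [show up g F (EtCoh.top X) a = up g F (EtCoh.top X) b from hab]
    exact ⟨_, 𝟙 _, ⟨z, rfl⟩, rfl⟩
  · intro s
    have hex := exists_good g F s
    choose V a z M hVaff hMo hMc hzM hzt hgood using hex
    obtain ⟨J, hJ⟩ := isCompact_univ.elim_finite_subcover (fun t : T => ((EtCoh.bc g).obj (V t)).hom '' M t)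
      (fun t => by
        haveI : Etale ((EtCoh.bc g).obj (V t)).hom := ((EtCoh.bc g).obj (V t)).prop
        exact ((EtCoh.bc g).obj (V t)).hom.isOpenMap _ (hMo t))
      (fun t _ => Set.mem_iUnion.2 ⟨t, z t, hzM t, hzt t⟩)
    let U : J → X.Etale := fun j => V j.1
    let b : ∀ j : J, F.obj.obj (op (U j)) := fun j => a j.1
    let N : ∀ j : J, Set ((EtCoh.bc g).obj (U j)).left := fun j => M j.1
    have hNo : ∀ j, IsOpen (N j) := fun j => hMo j.1
    have hcov : ∀ t : T, ∃ (j : J) (w : ((EtCoh.bc g).obj (U j)).left), w ∈ N j ∧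
        ((EtCoh.bc g).obj (U j)).hom w = t := fun t => by
      obtain ⟨t', ht'J, w, hw, hwt⟩ := Set.mem_iUnion₂.1 (hJ (Set.mem_univ t))
      exact ⟨⟨t', ht'J⟩, w, hw, hwt⟩
    have hmapT : ∀ {W W' : X.Etale} (m : W' ⟶ W),
        ((EtCoh.pull g).obj F).obj.map ((EtCoh.bc g).map m).op (((EtCoh.pull g).obj F).obj.map (toT' g W).op s) =
          ((EtCoh.pull g).obj F).obj.map (toT' g W').op s := fun m => by
      rw [mapP, eq_toT' g ((EtCoh.bc g).map m ≫ toT' g _)]
    have hA : AgreeT g U b N := by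
      intro j k ζ hj hk
      have h : ∀ (l : J) (m : prodEt (U j) (U k) ⟶ U l), ((EtCoh.bc g).map m).left ζ ∈ N l →
          AEq ((EtCoh.pull g).obj F).obj (up g F _ (F.obj.map m.op (b l)))
            (((EtCoh.pull g).obj F).obj.map (toT' g _).op s) ζ := fun l m hm => by
        have h2 := (hgood l.1 _ hm).map ((EtCoh.bc g).map m)
        rwa [← up_map, hmapT] at h2
      exact aEq_of_up g F ((h j _ hj).trans (h k _ hk).symm)
    haveI hUc : ∀ j, CompactSpace ↥(U j).left := fun j => by
      haveI := hVaff j.1; exact inferInstanceAs (CompactSpace ↥(V j.1).left)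
    haveI hUq : ∀ j, QuasiSeparatedSpace ↥(U j).left := fun j => by
      haveI := hVaff j.1; exact inferInstanceAs (QuasiSeparatedSpace ↥(V j.1).left)
    let u : ∀ j : J, (U j).left ⟶ X := fun j => (U j).hom
    haveI hUe : ∀ j, Etale (u j) := fun j => (U j).prop
    haveI hUqc : ∀ j, QuasiCompact (u j) := fun j => quasiCompact_of_compactSpace (u j)
    haveI hUqs : ∀ j, QuasiSeparated (u j) := fun j => by haveI := hUq j; infer_instance
    have hPc : ∀ j k, CompactSpace ↥(pullback (u j) (u k)) := fun j k =>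
      QuasiCompact.compactSpace_of_compactSpace (pullback.fst (u j) (u k))
    have hPq : ∀ j k, QuasiSeparatedSpace ↥(pullback (u j) (u k)) := fun j k =>
      quasiSeparatedSpace_of_quasiSeparated (pullback.fst (u j) (u k))
    haveI hUsp : ∀ j, SpectralSpace ↥(U j).left := fun j => {}
    haveI hPsp : ∀ j k, SpectralSpace ↥(pullback (u j) (u k)) := fun j k => by
      haveI := hPc j k; haveI := hPq j k; exact {}
    let AG : ∀ j k : J, Set ↥(pullback (u j) (u k)) := fun j k =>
      {p : (prodEt (U j) (U k)).left | AEq F.obj (F.obj.map (p₁ (U j) (U k)).op (b j))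
        (F.obj.map (p₂ (U j) (U k)).op (b k)) p}
    let Gn : ∀ k : J, Set ↥(U k).left := fun k => {y | ∃ w ∈ pr g (U k) '' N k, y ⤳ w}
    let B : ∀ j k : J, Set ↥(pullback (u j) (u k)) := fun j k =>
      (AG j k)ᶜ ∩ pullback.snd (u j) (u k) ⁻¹' Gn k
    have hB : ∀ j k, IsClosed[constructibleTopology _] (B j k) := fun j k =>
      @IsClosed.inter _ _ _ (constructibleTopology _)
        (isClosed_constructible_of_isClosed (isOpen_aEq _ _).isClosed_compl)
        (isClosed_constructible_preimage_gen _ (pullback.snd (u j) (u k)).isSpectralMap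
          ((hMc k.1).image (pr g (U k)).continuous))
    have hclaim : ∀ (j k : J) (w : (U j).left), w ∈ pr g (U j) '' N j →
        w ∉ closure (pullback.fst (u j) (u k) '' B j k) := fun j k w hw hcl => by
      obtain ⟨p, ⟨hpA, hpG⟩, hpw⟩ := exists_specializes_map _ (pullback.fst (u j) (u k)).isSpectralMap
        _ (hB j k) w hcl
      obtain ⟨_, ⟨z₂, hz₂, rfl⟩, hpw'⟩ := hpG
      obtain ⟨z₁, hz₁, rfl⟩ := hw
      exact hpA (aEq_of_adj hW hA hNo hcov p ⟨z₁, hz₁, hpw⟩ ⟨z₂, hz₂, hpw'⟩)
    let O : ∀ j, (U j).left.Opens := fun j =>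
      ⟨(⋃ k, closure (pullback.fst (u j) (u k) '' B j k))ᶜ,
        (isClosed_iUnion_of_finite fun k => isClosed_closure).isOpen_compl⟩
    have hO : ∀ j (w : (U j).left), w ∈ pr g (U j) '' N j → w ∈ O j := fun j w hw hm => by
      obtain ⟨k, hk⟩ := Set.mem_iUnion.1 hm
      exact hclaim j k w hw hk
    have hhom : ∀ (j : J) (w : ((EtCoh.bc g).obj (U j)).left),
        (U j).hom (pr g (U j) w) = g (((EtCoh.bc g).obj (U j)).hom w) := fun j w =>
      comp_eq_apply (pullback.condition (f := (U j).hom) (g := g)) w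
    -- agreement on the shrunken family
    have hagree : ∀ (j k : J) (p : (prodEt (U j) (U k)).left), (p₁ (U j) (U k)).left p ∈ O j →
        (p₂ (U j) (U k)).left p ∈ O k →
        AEq F.obj (F.obj.map (p₁ (U j) (U k)).op (b j)) (F.obj.map (p₂ (U j) (U k)).op (b k)) p := by
      intro j k p hpj hpk
      obtain ⟨Ω, _, _, ξ, P, hP⟩ := EtFound.exists_point_through (prodEt (U j) (U k)) p
      let d : Spec (CommRingCat.of Ω) := default
      obtain ⟨t₀, ht₀⟩ := hspec (ξ d)
      obtain ⟨l, z₀, hz₀, hz₀t⟩ := hcov t₀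
      obtain ⟨y, hyw, hyx⟩ := (Flat.generalizingMap (u l))
        (show ξ d ⤳ u l (pr g (U l) z₀) from by
          show ξ d ⤳ (U l).hom (pr g (U l) z₀)
          rw [hhom, hz₀t]; exact ht₀)
      obtain ⟨t₁, ht₁, ht₁y⟩ := Scheme.exists_fac_of_etale_of_isSepClosed (u l) ξ y hyx
      let t'' : (Scheme.pointSmallEtale ξ).fiber.obj (U l) := CategoryTheory.Over.homMk t₁ ht₁
      have hy : y ∈ Gn l := ⟨_, ⟨z₀, hz₀, rfl⟩, hyw⟩
      have key : ∀ (j : J) (t : (Scheme.pointSmallEtale ξ).fiber.obj (U j)),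
          (t.left : Spec (CommRingCat.of Ω) ⟶ (U j).left) d ∈ O j →
          (Scheme.pointSmallEtale ξ).toPresheafFiber (U j) t F.obj (b j) =
            (Scheme.pointSmallEtale ξ).toPresheafFiber (U l) t'' F.obj (b l) := by
        intro j t htO
        let t1 : Spec (CommRingCat.of Ω) ⟶ (U j).left := t.left
        have ht1 : t1 ≫ (u j) = ξ := CategoryTheory.Over.w t
        let r : Spec (CommRingCat.of Ω) ⟶ pullback (u j) (u l) :=
          pullback.lift t1 t₁ (ht1.trans ht₁.symm)
        let R : (Scheme.pointSmallEtale ξ).fiber.obj (prodEt (U j) (U l)) := CategoryTheory.Over.homMk r (by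
          show r ≫ pullback.fst (u j) (u l) ≫ (u j) = ξ
          rw [pullback.lift_fst_assoc, ht1])
        have e1 : pullback.fst (u j) (u l) (r d) = t1 d := by
          rw [← Scheme.Hom.comp_apply, pullback.lift_fst]
        have e2 : pullback.snd (u j) (u l) (r d) = y := by
          rw [← Scheme.Hom.comp_apply, pullback.lift_snd]; exact ht₁y
        have hr : r d ∈ AG j l := by
          by_contra hne
          refine htO (Set.mem_iUnion.2 ⟨l, subset_closure ⟨r d, ⟨hne, ?_⟩, e1⟩⟩)
          show pullback.snd (u j) (u l) (r d) ∈ Gn l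
          rw [e2]; exact hy
        have hg := germ_eq (show AEq F.obj _ _ _ from hr) R rfl
        rw [(Scheme.pointSmallEtale ξ).toPresheafFiber_w_apply, (Scheme.pointSmallEtale ξ).toPresheafFiber_w_apply] at hg
        refine Eq.trans ?_ (hg.trans ?_)
        · exact congrArg (fun u => (Scheme.pointSmallEtale ξ).toPresheafFiber (U j) u F.obj (b j))
            (show t = (Scheme.pointSmallEtale ξ).fiber.map (p₁ (U j) (U l)) R from
              CategoryTheory.Over.OverMorphism.ext (pullback.lift_fst _ _ _).symm)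
        · exact congrArg (fun u => (Scheme.pointSmallEtale ξ).toPresheafFiber (U l) u F.obj (b l))
            (show (Scheme.pointSmallEtale ξ).fiber.map (p₂ (U j) (U l)) R = t'' from
              CategoryTheory.Over.OverMorphism.ext (pullback.lift_snd _ _ _))
      refine aEq_of_germ ξ P ?_ p (hP d)
      rw [(Scheme.pointSmallEtale ξ).toPresheafFiber_w_apply, (Scheme.pointSmallEtale ξ).toPresheafFiber_w_apply]
      refine (key j _ ?_).trans (key k _ ?_).symm
      · show ((P.left : Spec (CommRingCat.of Ω) ⟶ _) ≫ (p₁ (U j) (U k)).left) d ∈ O j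
        rw [Scheme.Hom.comp_apply, hP d]; exact hpj
      · show ((P.left : Spec (CommRingCat.of Ω) ⟶ _) ≫ (p₂ (U j) (U k)).left) d ∈ O k
        rw [Scheme.Hom.comp_apply, hP d]; exact hpk
    -- glue
    let U' : J → X.Etale := fun j => MorphismProperty.Over.mk ⊤ ((O j).ι ≫ (U j).hom) (by
      haveI := hUe j
      exact inferInstanceAs (Etale ((O j).ι ≫ (U j).hom)))
    let ιO : ∀ j, U' j ⟶ U j := fun j => MorphismProperty.Over.homMk (O j).ι rfl
    let b' : ∀ j, F.obj.obj (op (U' j)) := fun j => F.obj.map (ιO j).op (b j)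
    have hcomp : ∀ (j k : J) (Y : X.Etale) (f : Y ⟶ U' j) (g' : Y ⟶ U' k),
        F.obj.map f.op (b' j) = F.obj.map g'.op (b' k) := fun j k Y f g' => by
      refine eq_of_aEq F fun y => ?_
      let h : Y ⟶ prodEt (U j) (U k) := MorphismProperty.Over.homMk
        (pullback.lift (f ≫ ιO j).left (g' ≫ ιO k).left
          ((MorphismProperty.Over.w (f ≫ ιO j)).trans (MorphismProperty.Over.w (g' ≫ ιO k)).symm))
        (by
          show pullback.lift _ _ _ ≫ pullback.fst (U j).hom (U k).hom ≫ (U j).hom = Y.hom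
          rw [pullback.lift_fst_assoc]
          exact MorphismProperty.Over.w (f ≫ ιO j))
      have e1 : h ≫ p₁ (U j) (U k) = f ≫ ιO j := MorphismProperty.Over.Hom.ext (pullback.lift_fst _ _ _)
      have e2 : h ≫ p₂ (U j) (U k) = g' ≫ ιO k := MorphismProperty.Over.Hom.ext (pullback.lift_snd _ _ _)
      have h1 : (p₁ (U j) (U k)).left (h.left y) ∈ O j := by
        have e := congrArg (fun φ : Y ⟶ U j => φ.left y) e1
        exact e.symm ▸ (f.left y).2
      have h2 : (p₂ (U j) (U k)).left (h.left y) ∈ O k := by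
        have e := congrArg (fun φ : Y ⟶ U k => φ.left y) e2
        exact e.symm ▸ (g'.left y).2
      have := (hagree j k _ h1 h2).map h
      rw [mapP, mapP, e1, e2, ← mapP, ← mapP] at this
      exact this
    have hsurjU : ∀ x : X, ∃ (j : J) (w : (U' j).left), (U' j).hom w = x := fun x => by
      obtain ⟨t₀, ht₀⟩ := hspec x
      obtain ⟨j, z₀, hz₀, hz₀t⟩ := hcov t₀
      haveI : Etale (U' j).hom := (U' j).prop
      have hopen : IsOpen (Set.range (U' j).hom) := (U' j).hom.isOpenMap.isOpen_range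
      refine ⟨j, ht₀.mem_open hopen ⟨⟨pr g (U j) z₀, hO j _ ⟨z₀, hz₀, rfl⟩⟩, ?_⟩⟩
      show (U j).hom (pr g (U j) z₀) = g t₀
      rw [hhom, hz₀t]
    have hsieve : Sieve.generate (Presieve.ofArrows U' (fun j => (EtCore.topIsTerminal X).from (U' j))) ∈
        X.smallEtaleTopology (EtCoh.top X) := by
      rw [EtFound.mem_topology_iff]
      intro x
      obtain ⟨j, w, hw⟩ := hsurjU x
      refine ⟨U' j, (EtCore.topIsTerminal X).from (U' j), w,
        ⟨U' j, 𝟙 _, (EtCore.topIsTerminal X).from (U' j), ⟨j⟩, Category.id_comp _⟩, ?_⟩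
      have hm : (U' j).hom = ((EtCore.topIsTerminal X).from (U' j)).left :=
        (MorphismProperty.Over.w ((EtCore.topIsTerminal X).from (U' j))).symm.trans (Category.comp_id _)
      rw [← hm]
      exact hw
    have hsh := (isSheaf_iff_isSheaf_of_type _ _).1
      (GrothendieckTopology.HasSheafCompose.isSheaf (F := CategoryTheory.forget AddCommGrpCat.{u + 1}) F.obj F.property)
    obtain ⟨a₀, ha₀, -⟩ := (Presieve.isSheafFor_arrows_iff _ _).1 ((Presieve.isSheafFor_iff_generate _).2
      (hsh _ hsieve)) b' (fun j k Y f g' _ => hcomp j k Y f g')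
    refine ⟨a₀, eq_of_aEq ((EtCoh.pull g).obj F) fun y => ?_⟩
    obtain ⟨j, z₀, hz₀, hz₀t⟩ := hcov (((EtCoh.bc g).obj (EtCoh.top X)).hom y)
    let m := (EtCore.topIsTerminal X).from (U j)
    have hzy : ((EtCoh.bc g).map m).left z₀ = y := by
      haveI : IsIso ((EtCoh.bc g).obj (EtCoh.top X)).hom := by
        show IsIso (pullback.snd (𝟙 X) g)
        infer_instance
      apply ((EtCoh.bc g).obj (EtCoh.top X)).hom.isEmbedding.injective
      rw [← hz₀t]
      exact comp_eq_apply (f := ((EtCoh.bc g).map m).left) (h := ((EtCoh.bc g).obj (EtCoh.top X)).hom)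
        (k := ((EtCoh.bc g).obj (U j)).hom) (l := 𝟙 T)
        ((MorphismProperty.Over.w ((EtCoh.bc g).map m)).trans (Category.comp_id _).symm) z₀
    let w' : (U' j).left := ⟨pr g (U j) z₀, hO j _ ⟨z₀, hz₀, rfl⟩⟩
    obtain ⟨t, ht, -⟩ := Scheme.exists_preimage_of_isPullback (EtCoh.isPullback_bc_map g (ιO j)) z₀ w' rfl
    let m' := (EtCore.topIsTerminal X).from (U' j)
    have hm' : ιO j ≫ m = m' := (EtCore.topIsTerminal X).hom_ext _ _
    have hty : ((EtCoh.bc g).map m').left t = y := by
      rw [← hm', ← hzy, ← ht]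
      exact (congrArg (fun φ : (EtCoh.bc g).obj (U' j) ⟶ (EtCoh.bc g).obj (EtCoh.top X) => φ.left t)
        ((EtCoh.bc g).map_comp (ιO j) m)).trans (Scheme.Hom.comp_apply _ _ _)
    rw [← hty]
    refine AEq.of_map ((EtCoh.bc g).map m') ?_
    rw [← up_map]
    have hgd := (hgood j.1 (((EtCoh.bc g).map (ιO j)).left t)
      (show ((EtCoh.bc g).map (ιO j)).left t ∈ N j from ht.symm ▸ hz₀)).map ((EtCoh.bc g).map (ιO j))
    rw [← up_map, hmapT] at hgd
    have ea : F.obj.map m'.op a₀ = b' j := ha₀ j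
    rw [ea]
    exact hgd

end Groth.Agent.GabberRigSec
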