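import Groth.Agent.GabberRigSec.Comp
import Groth.Agent.Hensel.IntegralStrict

/-! Strict localizations along morphisms inducing isomorphisms modulo an ideal. -/

set_option autoImplicit false
universe u

open IsLocalRing

namespace Groth.Agent.GabberRigSec

/-- Strict henselizations of local rings isomorphic modulo an ideal are isomorphic modulo it. -/
theorem bijective_strict_quot {O O' R R' : Type u} [CommRing O] [IsLocalRing O] [CommRing O'] [IsLocalRing O']
    [CommRing R] [IsLocalRing R] [CommRing R'] [IsLocalRing R']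
    [Algebra O R] [IsLocalHom (algebraMap O R)] [Hensel.IsStrictHenselization O R]
    [Algebra O' R'] [IsLocalHom (algebraMap O' R')] [Hensel.IsStrictHenselization O' R']
    (f : O →+* O') [IsLocalHom f] (φ : R →+* R') [IsLocalHom φ]
    (hφ : ∀ o, φ (algebraMap O R o) = algebraMap O' R' (f o))
    (J : Ideal O) (hJ : J ≤ maximalIdeal O)
    (hbij : Function.Bijective (Ideal.quotientMap (J.map f) f Ideal.le_comap_map)) :
    Function.Bijective (Ideal.quotientMap ((J.map (algebraMap O R)).map φ) φ Ideal.le_comap_map) := by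
  let JR := J.map (algebraMap O R)
  let JR' := JR.map φ
  have hJR : JR ≤ maximalIdeal R :=
    Ideal.map_le_iff_le_comap.2 (hJ.trans fun x hx h => hx ((isUnit_map_iff (algebraMap O R) x).1 h))
  have hJR' : JR' ≤ maximalIdeal R' :=
    Ideal.map_le_iff_le_comap.2 (hJR.trans fun x hx h => hx ((isUnit_map_iff φ x).1 h))
  have hJf : J.map f ≤ maximalIdeal O' :=
    Ideal.map_le_iff_le_comap.2 (hJ.trans fun x hx h => hx ((isUnit_map_iff f x).1 h))
  haveI : HenselianLocalRing R := Hensel.IsStrictHenselization.henselian (R := O)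
  haveI : HenselianLocalRing R' := Hensel.IsStrictHenselization.henselian (R := O')
  haveI : Nontrivial (R ⧸ JR) := Ideal.Quotient.nontrivial_iff.2 fun h => (maximalIdeal.isMaximal R).ne_top (top_le_iff.1 (h ▸ hJR))
  haveI : Nontrivial (R' ⧸ JR') := Ideal.Quotient.nontrivial_iff.2 fun h => (maximalIdeal.isMaximal R').ne_top (top_le_iff.1 (h ▸ hJR'))
  haveI : IsLocalRing (R ⧸ JR) := IsLocalRing.of_surjective' _ Ideal.Quotient.mk_surjective
  haveI : IsLocalRing (R' ⧸ JR') := IsLocalRing.of_surjective' _ Ideal.Quotient.mk_surjective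
  haveI : HenselianLocalRing (R ⧸ JR) := Groth.Agent.Hensel.henselianLocalRing_of_isIntegral_local R (R ⧸ JR)
  haveI : HenselianLocalRing (R' ⧸ JR') := Groth.Agent.Hensel.henselianLocalRing_of_isIntegral_local R' (R' ⧸ JR')
  haveI hl : IsLocalHom (Ideal.Quotient.mk JR) := .of_surjective _ Ideal.Quotient.mk_surjective
  haveI hl' : IsLocalHom (Ideal.Quotient.mk JR') := .of_surjective _ Ideal.Quotient.mk_surjective
  let ψ : R ⧸ JR →+* R' ⧸ JR' := Ideal.quotientMap JR' φ Ideal.le_comap_map
  let e := RingEquiv.ofBijective _ hbij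
  -- the map `O' → R/JR`
  have hker : ∀ x ∈ J, (Ideal.Quotient.mk JR).comp (algebraMap O R) x = 0 := fun x hx =>
    Ideal.Quotient.eq_zero_iff_mem.2 (Ideal.mem_map_of_mem _ hx)
  let f' : O' →+* R ⧸ JR :=
    (Ideal.Quotient.lift J ((Ideal.Quotient.mk JR).comp (algebraMap O R)) hker).comp
      (e.symm.toRingHom.comp (Ideal.Quotient.mk (J.map f)))
  have hf' : ∀ (o : O) (o' : O'), o' - f o ∈ J.map f → f' o' = Ideal.Quotient.mk JR (algebraMap O R o) := by
    intro o o' h
    show Ideal.Quotient.lift J _ hker (e.symm (Ideal.Quotient.mk _ o')) = _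
    rw [show e.symm (Ideal.Quotient.mk (J.map f) o') = Ideal.Quotient.mk J o from
      (RingEquiv.symm_apply_eq _).2 (Ideal.Quotient.eq.2 h), Ideal.Quotient.lift_mk]
    rfl
  have hex : ∀ o' : O', ∃ o, o' - f o ∈ J.map f := fun o' => by
    obtain ⟨z, hz⟩ := hbij.2 (Ideal.Quotient.mk _ o')
    obtain ⟨o, rfl⟩ := Ideal.Quotient.mk_surjective z
    exact ⟨o, Ideal.Quotient.eq.1 hz.symm⟩
  haveI : IsLocalHom f' := ⟨fun o' ho' => by
    obtain ⟨o, ho⟩ := hex o'
    rw [hf' o o' ho] at ho'
    have h1 := (isUnit_map_iff f o).2 ((isUnit_map_iff (algebraMap O R) o).1 ((isUnit_map_iff (Ideal.Quotient.mk JR) _).1 ho'))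
    have h2 : o' - f o ∈ maximalIdeal O' :=
      hJf ho
    by_contra hn
    have h3 := sub_mem (show o' ∈ maximalIdeal O' from hn) h2
    rw [sub_sub_cancel] at h3
    exact h3 h1⟩
  -- residue fields
  have hSC := Hensel.IsStrictHenselization.isSepClosure (R := O) (S := R)
  have hSC' := Hensel.IsStrictHenselization.isSepClosure (R := O') (S := R')
  have hsurjφ : Function.Surjective (ResidueField.map φ) := by
    letI : Algebra (ResidueField R) (ResidueField R') := (ResidueField.map φ).toAlgebra
    haveI := hSC.sep_closed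
    letI : Algebra (ResidueField O) (ResidueField R') :=
      ((algebraMap (ResidueField O') (ResidueField R')).comp (ResidueField.map f)).toAlgebra
    haveI : IsScalarTower (ResidueField O) (ResidueField R) (ResidueField R') := IsScalarTower.of_algebraMap_eq' (by
      refine RingHom.ext fun x => ?_
      obtain ⟨o, rfl⟩ := residue_surjective x
      show residue R' (algebraMap O' R' (f o)) = residue R' (φ (algebraMap O R o))
      rw [hφ])
    have hsurjf : Function.Surjective (ResidueField.map f) := fun z => by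
      obtain ⟨o', rfl⟩ := residue_surjective z
      obtain ⟨o, ho⟩ := hex o'
      refine ⟨residue O o, ?_⟩
      rw [ResidueField.map_residue]
      refine (Ideal.Quotient.eq.2 ?_).symm
      exact hJf ho
    let ef := RingEquiv.ofBijective _ ⟨(ResidueField.map f).injective, hsurjf⟩
    haveI := hSC'.separable
    haveI : Algebra.IsSeparable (ResidueField O) (ResidueField R') := by
      refine Algebra.IsSeparable.of_equiv_equiv ef.symm (RingEquiv.refl (ResidueField R')) (RingHom.ext fun x => ?_)
      obtain ⟨y, rfl⟩ := ef.surjective x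
      rw [RingHom.comp_apply, RingHom.comp_apply]
      erw [RingEquiv.symm_apply_apply]
      rfl
    haveI : Algebra.IsSeparable (ResidueField R) (ResidueField R') :=
      Algebra.isSeparable_tower_top_of_isSeparable (ResidueField O) (ResidueField R) (ResidueField R')
    exact IsSepClosed.algebraMap_surjective (ResidueField R) (ResidueField R')
  let eφ := RingEquiv.ofBijective _ ⟨(ResidueField.map φ).injective, hsurjφ⟩
  let τ : ResidueField R' →+* ResidueField (R ⧸ JR) :=
    (ResidueField.map (Ideal.Quotient.mk JR)).comp eφ.symm.toRingHom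
  have hτ : ∀ r : R, τ (residue R' (φ r)) = residue (R ⧸ JR) (Ideal.Quotient.mk JR r) := fun r => by
    show ResidueField.map (Ideal.Quotient.mk JR) (eφ.symm (residue R' (φ r))) = _
    rw [show eφ.symm (residue R' (φ r)) = residue R r from
      (RingEquiv.symm_apply_eq _).2 (ResidueField.map_residue φ r).symm]
    rfl
  obtain ⟨g, ⟨hg, hgres⟩, -⟩ := Hensel.IsStrictHenselization.universal (R := O') (S := R') (R ⧸ JR) f' τ (by
    refine RingHom.ext fun x => ?_
    obtain ⟨o', rfl⟩ := residue_surjective x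
    obtain ⟨o, ho⟩ := hex o'
    have e1 : residue O' o' = residue O' (f o) := Ideal.Quotient.eq.2
      (hJf ho)
    show τ (ResidueField.map (algebraMap O' R') (residue O' o')) = residue _ (f' o')
    rw [hf' o o' ho, e1, ResidueField.map_residue, ← hφ, hτ])
  have hgφ : g.comp φ = Ideal.Quotient.mk JR := by
    have hc : (Ideal.Quotient.mk JR).comp (algebraMap O R) = (Ideal.Quotient.mk JR).comp (algebraMap O R) := rfl
    haveI : IsLocalHom ((Ideal.Quotient.mk JR).comp (algebraMap O R)) := RingHom.isLocalHom_comp _ _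
    obtain ⟨g₀, -, hu⟩ := Hensel.IsStrictHenselization.universal (R := O) (S := R) (R ⧸ JR)
      ((Ideal.Quotient.mk JR).comp (algebraMap O R)) (ResidueField.map (Ideal.Quotient.mk JR)) (RingHom.ext fun x => by
        obtain ⟨o, rfl⟩ := residue_surjective x
        rfl)
    refine (hu (g.comp φ) ⟨RingHom.ext fun o => ?_, fun r => ?_⟩).trans (hu _ ⟨hc, fun r => rfl⟩).symm
    · show g (φ (algebraMap O R o)) = _
      rw [hφ, ← RingHom.comp_apply, hg]
      exact hf' o _ (by rw [sub_self]; exact Submodule.zero_mem _)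
    · show residue _ (g (φ r)) = _
      rw [hgres, hτ]
      rfl
  have hψg : ψ.comp g = Ideal.Quotient.mk JR' := by
    haveI : IsLocalHom ((Ideal.Quotient.mk JR').comp (algebraMap O' R')) := RingHom.isLocalHom_comp _ _
    obtain ⟨g₀, -, hu⟩ := Hensel.IsStrictHenselization.universal (R := O') (S := R') (R' ⧸ JR')
      ((Ideal.Quotient.mk JR').comp (algebraMap O' R')) (ResidueField.map (Ideal.Quotient.mk JR')) (RingHom.ext fun x => by
        obtain ⟨o, rfl⟩ := residue_surjective x
        rfl)
    refine (hu (ψ.comp g) ⟨RingHom.ext fun o' => ?_, fun r => ?_⟩).trans (hu _ ⟨rfl, fun r => rfl⟩).symm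
    · obtain ⟨o, ho⟩ := hex o'
      show ψ (g (algebraMap O' R' o')) = Ideal.Quotient.mk JR' (algebraMap O' R' o')
      rw [← RingHom.comp_apply g, hg, hf' o o' ho]
      show Ideal.Quotient.mk JR' (φ (algebraMap O R o)) = _
      rw [hφ]
      refine (Ideal.Quotient.eq.2 ?_).symm
      rw [← map_sub]
      have h1 := Ideal.mem_map_of_mem (algebraMap O' R') ho
      rw [Ideal.map_map, ← show φ.comp (algebraMap O R) = (algebraMap O' R').comp f from RingHom.ext hφ,
        ← Ideal.map_map] at h1
      exact h1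
    · obtain ⟨s, hs⟩ := hsurjφ (residue R' r)
      obtain ⟨s, rfl⟩ := residue_surjective s
      obtain ⟨t, ht⟩ := Ideal.Quotient.mk_surjective (g r)
      show residue _ (ψ (g r)) = residue _ (Ideal.Quotient.mk JR' r)
      have h1 : residue (R ⧸ JR) (g r) = residue (R ⧸ JR) (Ideal.Quotient.mk JR s) := by
        rw [hgres, ← hτ]
        exact congrArg τ hs.symm
      have h2 : residue R t = residue R s := by
        refine (ResidueField.map (Ideal.Quotient.mk JR)).injective ?_
        rw [ResidueField.map_residue, ResidueField.map_residue, ht]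
        exact h1
      rw [← ht]
      show ResidueField.map (Ideal.Quotient.mk JR') (residue R' (φ t)) =
        ResidueField.map (Ideal.Quotient.mk JR') (residue R' r)
      rw [← hs, ← ResidueField.map_residue φ t, h2, ResidueField.map_residue]
  refine ⟨(injective_iff_map_eq_zero ψ).2 fun z hz => ?_, fun z => ?_⟩
  · obtain ⟨r, rfl⟩ := Ideal.Quotient.mk_surjective z
    have h1 : φ r ∈ JR' := Ideal.Quotient.eq_zero_iff_mem.1 hz
    have h2 : JR' ≤ RingHom.ker g := Ideal.map_le_iff_le_comap.2 fun a ha => by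
      rw [Ideal.mem_comap, RingHom.mem_ker, ← RingHom.comp_apply, hgφ]
      exact Ideal.Quotient.eq_zero_iff_mem.2 ha
    have h3 := RingHom.mem_ker.1 (h2 h1)
    rwa [← RingHom.comp_apply, hgφ] at h3
  · obtain ⟨r, rfl⟩ := Ideal.Quotient.mk_surjective z
    exact ⟨g r, RingHom.congr_fun hψg r⟩

theorem bijective_localization_quot {A B O O' : Type u} [CommRing A] [CommRing B] [CommRing O] [CommRing O']
    [Algebra A O] [Algebra B O'] (χ : A →+* B) (q : Ideal B) [q.IsPrime] (p : Ideal A) [p.IsPrime]
    (hp : q.comap χ = p) [IsLocalization.AtPrime O p] [IsLocalization.AtPrime O' q]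
    (f : O →+* O') (hf : ∀ a, f (algebraMap A O a) = algebraMap B O' (χ a))
    (K : Ideal A) (hKq : K.map χ ≤ q) (hχ : Function.Bijective (Ideal.quotientMap (K.map χ) χ Ideal.le_comap_map)) :
    Function.Bijective (Ideal.quotientMap ((K.map (algebraMap A O)).map f) f Ideal.le_comap_map) := by
  have hmap : (K.map (algebraMap A O)).map f = (K.map χ).map (algebraMap B O') := by
    rw [Ideal.map_map, Ideal.map_map, show f.comp (algebraMap A O) = (algebraMap B O').comp χ from RingHom.ext hf]
  have hlift : ∀ b : B, ∃ a : A, b - χ a ∈ K.map χ := fun b => by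
    obtain ⟨z, hz⟩ := hχ.2 (Ideal.Quotient.mk _ b)
    obtain ⟨a, rfl⟩ := Ideal.Quotient.mk_surjective z
    exact ⟨a, Ideal.Quotient.eq.1 hz.symm⟩
  have hinjK : ∀ a : A, χ a ∈ K.map χ → a ∈ K := fun a ha => by
    refine Ideal.Quotient.eq_zero_iff_mem.1 (hχ.1 ?_)
    rw [map_zero]
    exact Ideal.Quotient.eq_zero_iff_mem.2 ha
  have hnot : ∀ s : B, s ∉ q → ∀ a : A, s - χ a ∈ K.map χ → a ∉ p := fun s hs a ha h => by
    rw [← hp] at h
    exact hs (by have := add_mem (hKq ha) (show χ a ∈ q from h); rwa [sub_add_cancel] at this)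
  refine ⟨(injective_iff_map_eq_zero _).2 fun z hz => ?_, fun z => ?_⟩
  · obtain ⟨o, rfl⟩ := Ideal.Quotient.mk_surjective z
    rw [Ideal.quotientMap_mk, Ideal.Quotient.eq_zero_iff_mem, hmap] at hz
    obtain ⟨⟨a, t⟩, hat⟩ := IsLocalization.surj p.primeCompl o
    have h1 : algebraMap B O' (χ a) ∈ (K.map χ).map (algebraMap B O') := by
      rw [← hf, ← hat, map_mul]
      exact Ideal.mul_mem_right _ _ hz
    obtain ⟨⟨x, s⟩, hxs⟩ := (IsLocalization.mem_map_algebraMap_iff q.primeCompl O').1 h1
    rw [← map_mul] at hxs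
    obtain ⟨c, hc⟩ := (IsLocalization.eq_iff_exists q.primeCompl O').1 hxs
    have h2 : χ a * ((c : B) * s) ∈ K.map χ := by
      rw [show χ a * ((c : B) * s) = (c : B) * (χ a * s) by ring, hc]
      exact Ideal.mul_mem_left _ _ x.2
    obtain ⟨u, hu⟩ := hlift ((c : B) * s)
    have hup : u ∉ p := hnot _ (q.primeCompl.mul_mem c.2 s.2) u hu
    have h3 : u * a ∈ K := hinjK _ (by
      rw [map_mul, show χ u * χ a = χ a * ((c : B) * s) - χ a * ((c : B) * s - χ u) by ring]
      exact sub_mem h2 (Ideal.mul_mem_left _ _ hu))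
    refine Ideal.Quotient.eq_zero_iff_mem.2 ?_
    have h4 := Ideal.mem_map_of_mem (algebraMap A O) h3
    rw [map_mul, ← hat] at h4
    refine (Ideal.unit_mul_mem_iff_mem _ (IsLocalization.map_units O t)).1 ?_
    refine (Ideal.unit_mul_mem_iff_mem _ (IsLocalization.map_units O (⟨u, hup⟩ : p.primeCompl))).1 ?_
    convert h4 using 1
    ring
  · obtain ⟨o', rfl⟩ := Ideal.Quotient.mk_surjective z
    obtain ⟨⟨b, s⟩, hbs⟩ := IsLocalization.surj q.primeCompl o'
    obtain ⟨a, ha⟩ := hlift b
    obtain ⟨t, ht⟩ := hlift s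
    have htp : t ∉ p := hnot _ s.2 t ht
    obtain ⟨w, hw⟩ := IsLocalization.map_units O (⟨t, htp⟩ : p.primeCompl)
    refine ⟨Ideal.Quotient.mk _ ((w⁻¹ : Oˣ) * algebraMap A O a), ?_⟩
    rw [Ideal.quotientMap_mk]
    refine Ideal.Quotient.eq.2 ?_
    rw [hmap]
    refine (Ideal.unit_mul_mem_iff_mem _ ((IsLocalization.map_units O (⟨t, htp⟩ : p.primeCompl)).map f)).1 ?_
    have h5 : f (algebraMap A O t) * (f ((w⁻¹ : Oˣ) * algebraMap A O a) - o') =
        o' * algebraMap B O' ((s : B) - χ t) - algebraMap B O' (b - χ a) := by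
      rw [mul_sub, ← map_mul f, ← mul_assoc, ← hw, w.mul_inv, one_mul, hf, map_sub, map_sub]
      rw [hw, hf]
      linear_combination -hbs
    show f (algebraMap A O t) * _ ∈ _
    rw [h5]
    exact sub_mem (Ideal.mul_mem_left _ _ (Ideal.mem_map_of_mem _ ht)) (Ideal.mem_map_of_mem _ ha)

/-- Completions of rings isomorphic modulo all powers of an ideal are isomorphic. -/
theorem exists_completion_equiv {R R' : Type u} [CommRing R] [CommRing R'] (φ : R →+* R') (K : Ideal R)
    (h : ∀ n, Function.Bijective (Ideal.quotientMap ((K ^ n).map φ) φ Ideal.le_comap_map)) :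
    ∃ e : AdicCompletion K R ≃+* AdicCompletion (K.map φ) R',
      e.toRingHom.comp (algebraMap R (AdicCompletion K R)) = (algebraMap R' (AdicCompletion (K.map φ) R')).comp φ := by
  let J := K.map φ
  have hle : ∀ n, K ^ n ≤ (J ^ n).comap φ := fun n => Ideal.le_comap_of_map_le (Ideal.map_pow _ _ _).le
  let Q : ∀ n, R ⧸ K ^ n →+* R' ⧸ J ^ n := fun n => Ideal.quotientMap (J ^ n) φ (hle n)
  have hQ : ∀ n, Function.Bijective (Q n) := fun n => by
    have e : (K ^ n).map φ = J ^ n := Ideal.map_pow _ _ _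
    refine ⟨(injective_iff_map_eq_zero _).2 fun z hz => ?_, fun z => ?_⟩
    · obtain ⟨r, rfl⟩ := Ideal.Quotient.mk_surjective z
      rw [Ideal.quotientMap_mk, Ideal.Quotient.eq_zero_iff_mem, ← e] at hz
      refine (h n).1 ?_
      rw [map_zero]
      exact Ideal.Quotient.eq_zero_iff_mem.2 hz
    · obtain ⟨r', rfl⟩ := Ideal.Quotient.mk_surjective z
      obtain ⟨w, hw⟩ := (h n).2 (Ideal.Quotient.mk _ r')
      obtain ⟨r, rfl⟩ := Ideal.Quotient.mk_surjective w
      refine ⟨Ideal.Quotient.mk _ r, Ideal.Quotient.eq.2 ?_⟩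
      rw [← e]
      exact Ideal.Quotient.eq.1 hw
  let Qe := fun n => RingEquiv.ofBijective (Q n) (hQ n)
  have hQnat : ∀ {m n : ℕ} (hmn : m ≤ n) (z : R ⧸ K ^ n),
      Ideal.Quotient.factor (Ideal.pow_le_pow_right hmn) (Q n z) = Q m (Ideal.Quotient.factor (Ideal.pow_le_pow_right hmn) z) := by
    intro m n hmn z
    obtain ⟨r, rfl⟩ := Ideal.Quotient.mk_surjective z
    rfl
  have hfac : ∀ {S : Type u} [CommRing S] (L : Ideal S) {m n : ℕ} (hmn : m ≤ n) (z : AdicCompletion L S),
      Ideal.Quotient.factor (Ideal.pow_le_pow_right hmn) (AdicCompletion.evalₐ L n z) = AdicCompletion.evalₐ L m z := by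
    intro S _ L m n hmn z
    obtain ⟨z, rfl⟩ := AdicCompletion.mk_surjective L S z
    rw [AdicCompletion.evalₐ_mk, AdicCompletion.evalₐ_mk, Ideal.Quotient.factor_mk]
    refine Ideal.Quotient.eq.2 ?_
    have := (z.2 hmn).symm
    rwa [SModEq.sub_mem, smul_eq_mul, Ideal.mul_top] at this
  let F : AdicCompletion K R →+* AdicCompletion J R' :=
    AdicCompletion.liftRingHom J (fun n => (Q n).comp (AdicCompletion.evalₐ K n).toRingHom) fun {m n} hmn =>
      RingHom.ext fun z => (hQnat hmn _).trans (congrArg (Q m) (hfac K hmn z))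
  have hF : ∀ n z, AdicCompletion.evalₐ J n (F z) = Q n (AdicCompletion.evalₐ K n z) := fun n z =>
    AdicCompletion.evalₐ_liftRingHom ..
  have hb : Function.Bijective F := by
    refine ⟨fun x y hxy => AdicCompletion.ext_evalₐ fun n => (hQ n).1 ?_, fun z => ?_⟩
    · rw [← hF, ← hF, hxy]
    · let G : AdicCompletion J R' →+* AdicCompletion K R :=
        AdicCompletion.liftRingHom K (fun n => (Qe n).symm.toRingHom.comp (AdicCompletion.evalₐ J n).toRingHom)
          fun {m n} hmn => RingHom.ext fun z => (hQ m).1 (by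
            show Q m (Ideal.Quotient.factor (Ideal.pow_le_pow_right hmn) ((Qe n).symm (AdicCompletion.evalₐ J n z))) =
              Q m ((Qe m).symm (AdicCompletion.evalₐ J m z))
            rw [← hQnat hmn]
            show Ideal.Quotient.factor _ ((Qe n) ((Qe n).symm _)) = (Qe m) ((Qe m).symm _)
            rw [RingEquiv.apply_symm_apply, RingEquiv.apply_symm_apply]
            exact hfac J hmn z)
      refine ⟨G z, AdicCompletion.ext_evalₐ fun n => ?_⟩
      rw [hF, show AdicCompletion.evalₐ K n (G z) = (Qe n).symm (AdicCompletion.evalₐ J n z) from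
        AdicCompletion.evalₐ_liftRingHom ..]
      exact (Qe n).apply_symm_apply _
  refine ⟨RingEquiv.ofBijective F hb, RingHom.ext fun r => AdicCompletion.ext_evalₐ fun n => ?_⟩
  show AdicCompletion.evalₐ J n (F (algebraMap R _ r)) = AdicCompletion.evalₐ J n (algebraMap R' _ (φ r))
  rw [hF, Rig7.eval_algebraMap, Rig7.eval_algebraMap]
  rfl

end Groth.Agent.GabberRigSec
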