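import Groth.Agent.GabberRigSec.StrictBase
import Groth.Agent.GabberRigSec.StrictQuot
import Groth.Agent.GabberRigSec.Cover
import Groth.Agent.GabberRigSec.Criterion

/-! Base change for open parts of henselian pairs along completion. -/

set_option autoImplicit false
set_option linter.style.haveILetI false
universe u

open CategoryTheory CategoryTheory.Limits AlgebraicGeometry TopologicalSpace Opposite IsLocalRing

namespace Groth.Agent.GabberRigSec

set_option backward.isDefEq.respectTransparency false
set_option backward.isDefEq.respectTransparency.types false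

open HenselConn

/-- Isomorphisms pull back sections bijectively. -/
theorem secPull_bijective_of_isIso {P' P : Scheme.{u}} (b : P' ⟶ P) [IsIso b] (G : EtDesc.Sh P) :
    Function.Bijective (EtDesc.secPull b G) := by
  refine secPull_bijective_of_connected b (isUnivSubmersive_of_integral b) (fun Ω _ _ s => ?_) G
  haveI : IsIso (pullback.snd b s) := inferInstance
  haveI : ConnectedSpace ↥(Spec (CommRingCat.of Ω)) := inferInstanceAs (ConnectedSpace (PrimeSpectrum Ω))
  exact (inv (pullback.snd b s)).homeomorph.surjective.connectedSpace (inv (pullback.snd b s)).continuous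

/-- Good covers are stable under composing with isomorphisms. -/
theorem GoodCovers.comp_isIso {T X X' : Scheme.{u}} {g : T ⟶ X} (h : GoodCovers g) (e : X ⟶ X') [IsIso e] :
    GoodCovers (g ≫ e) := by
  intro x
  obtain ⟨W, ω, hi, hs, hω, hN, hgen, hpc, hne⟩ := h ((inv e) x)
  haveI := hω
  let m : pullback ω g ⟶ pullback (ω ≫ e) (g ≫ e) :=
    pullback.lift (pullback.fst _ _) (pullback.snd _ _) (by rw [pullback.condition_assoc])
  let m' : pullback (ω ≫ e) (g ≫ e) ⟶ pullback ω g :=
    pullback.lift (pullback.fst _ _) (pullback.snd _ _) ((cancel_mono e).1 (by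
      rw [Category.assoc, Category.assoc, pullback.condition]))
  have hm : m' ≫ m = 𝟙 _ := by apply pullback.hom_ext <;> simp [m, m']
  have hms : Function.Surjective m := fun z => ⟨m' z, by rw [← Scheme.Hom.comp_apply, hm]; rfl⟩
  refine ⟨W, ω ≫ e, hi, hs, inferInstance, hN, ?_, ?_, ?_⟩
  · rw [Scheme.Hom.comp_apply, hgen, ← Scheme.Hom.comp_apply, IsIso.inv_hom_id]
    rfl
  · haveI := hpc
    exact ⟨by rw [← hms.range_eq]; exact isPreconnected_range m.continuous⟩
  · exact hne.map m

/-- Sections over the open part of a henselian pair and over its completion, in the form of a square. -/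
theorem secPull_completion {R : Type u} [CommRing R] (K : Ideal R) (hK : K.FG) [HenselianRing R K]
    {P : Scheme.{u}} (p : P ⟶ Spec (CommRingCat.of R)) [IsOpenImmersion p] [CompactSpace P]
    (hP : ∀ x : Spec (CommRingCat.of R), x ∉ p.opensRange → K ≤ x.asIdeal)
    (i : (compl K ⁻¹ᵁ p.opensRange : Scheme.{u}) ⟶ P) (hi : i ≫ p = openToBase K p.opensRange)
    (G : EtDesc.Sh P) : Function.Bijective (EtDesc.secPull i G) := by
  have hU : IsCompact (p.opensRange : Set (Spec (CommRingCat.of R))) := by
    rw [show (p.opensRange : Set (Spec (CommRingCat.of R))) = Set.range p from rfl]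
    exact isCompact_range p.continuous
  have hg := goodCovers (U := p.opensRange) hK hU hP
  have e : i = (compl K ∣_ p.opensRange) ≫ p.isoOpensRange.inv := by
    rw [← cancel_mono p, hi, Category.assoc, Scheme.Hom.isoOpensRange_inv_comp, morphismRestrict_ι]
  have hg' : GoodCovers i := e ▸ hg.comp_isIso p.isoOpensRange.inv
  haveI : CompactSpace ↥(compl K ⁻¹ᵁ p.opensRange : Scheme.{u}) := isCompact_iff_compactSpace.mp
    (QuasiCompact.isCompact_preimage (f := compl K) _ p.opensRange.2 hU)
  haveI : QuasiSeparatedSpace P := quasiSeparatedSpace_of_quasiSeparated p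
  exact ProperBC13.secPull_bijective_of_ab i (fun F => bijective_unit i F hg') G

/-- Pullback of sections along a map of strictly henselian rings isomorphic modulo an ideal. -/
theorem secPull_bijective_complete {R R' : Type u} [CommRing R] [CommRing R'] [HenselianLocalRing R]
    [HenselianLocalRing R'] (φ : R →+* R') [IsLocalHom φ] (K : Ideal R) (hK : K.FG) (hKm : K ≤ maximalIdeal R)
    (hquot : ∀ n, Function.Bijective (Ideal.quotientMap ((K ^ n).map φ) φ Ideal.le_comap_map))
    {P P' : Scheme.{u}} (p : P ⟶ Spec (CommRingCat.of R)) [IsOpenImmersion p] [CompactSpace P]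
    (hP : ∀ x : Spec (CommRingCat.of R), x ∉ p.opensRange → K ≤ x.asIdeal)
    (p' : P' ⟶ Spec (CommRingCat.of R')) (hT : P' ⟶ P)
    (h : IsPullback hT p' p (Spec.map (CommRingCat.ofHom φ))) (G : EtDesc.Sh P) :
    Function.Bijective (EtDesc.secPull hT G) := by
  haveI : IsOpenImmersion p' := MorphismProperty.of_isPullback h ‹IsOpenImmersion p›
  haveI : QuasiCompact p := quasiCompact_of_compactSpace p
  haveI : QuasiCompact p' := MorphismProperty.of_isPullback h ‹QuasiCompact p›
  haveI : CompactSpace P' := QuasiCompact.compactSpace_of_compactSpace p'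
  haveI : HenselianRing R K := Hensel.henselianRing_of_le hKm
  have hKm' : K.map φ ≤ maximalIdeal R' :=
    Ideal.map_le_iff_le_comap.2 (hKm.trans fun x hx hu => hx ((isUnit_map_iff φ x).1 hu))
  haveI : HenselianRing R' (K.map φ) := Hensel.henselianRing_of_le hKm'
  have hr : ∀ x : Spec (CommRingCat.of R'), x ∈ p'.opensRange ↔ Spec.map (CommRingCat.ofHom φ) x ∈ p.opensRange := by
    intro x
    constructor
    · rintro ⟨z, rfl⟩
      exact ⟨hT z, comp_eq_apply h.w z⟩
    · rintro ⟨z, hz⟩
      obtain ⟨w, -, hw⟩ := Scheme.exists_preimage_of_isPullback h z x hz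
      exact ⟨w, hw⟩
  have hP' : ∀ x : Spec (CommRingCat.of R'), x ∉ p'.opensRange → K.map φ ≤ x.asIdeal := fun x hx =>
    Ideal.map_le_iff_le_comap.2 (hP _ (fun hc => hx ((hr x).2 hc)))
  obtain ⟨e, he⟩ := exists_completion_equiv φ K hquot
  let ε : Spec (CommRingCat.of (AdicCompletion (K.map φ) R')) ⟶ Spec (CommRingCat.of (AdicCompletion K R)) :=
    Spec.map (CommRingCat.ofHom e.toRingHom)
  haveI : IsIso ε := inferInstanceAs (IsIso (Spec.map e.toCommRingCatIso.hom))
  have hε : ε ≫ compl K = compl (K.map φ) ≫ Spec.map (CommRingCat.ofHom φ) := by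
    simp only [ε, compl, ← Spec.map_comp, ← CommRingCat.ofHom_comp]
    rw [he]
  let T := compl K ⁻¹ᵁ p.opensRange
  let T' := compl (K.map φ) ⁻¹ᵁ p'.opensRange
  have hTT' : ∀ y, y ∈ T' ↔ ε y ∈ T := fun y => by
    show compl (K.map φ) y ∈ p'.opensRange ↔ compl K (ε y) ∈ p.opensRange
    rw [hr, comp_eq_apply hε y]
  let i : (T : Scheme.{u}) ⟶ P := IsOpenImmersion.lift p (T.ι ≫ compl K) (by
    rintro _ ⟨z, rfl⟩
    exact z.2)
  let i' : (T' : Scheme.{u}) ⟶ P' := IsOpenImmersion.lift p' (T'.ι ≫ compl (K.map φ)) (by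
    rintro _ ⟨z, rfl⟩
    exact z.2)
  let b : (T' : Scheme.{u}) ⟶ (T : Scheme.{u}) := IsOpenImmersion.lift T.ι (T'.ι ≫ ε) (by
    rintro _ ⟨z, rfl⟩
    rw [T.range_ι]
    exact (hTT' z.1).1 z.2)
  have hb : b ≫ T.ι = T'.ι ≫ ε := IsOpenImmersion.lift_fac _ _ _
  haveI : IsIso b := by
    let b' : (T : Scheme.{u}) ⟶ (T' : Scheme.{u}) := IsOpenImmersion.lift T'.ι (T.ι ≫ inv ε) (by
      rintro _ ⟨z, rfl⟩
      rw [T'.range_ι]
      refine (hTT' _).2 ?_
      have e1 : (T.ι ≫ inv ε) ≫ ε = T.ι := by rw [Category.assoc, IsIso.inv_hom_id, Category.comp_id]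
      rw [← Scheme.Hom.comp_apply, e1]
      exact z.2)
    have hb' : b' ≫ T'.ι = T.ι ≫ inv ε := IsOpenImmersion.lift_fac _ _ _
    refine ⟨b', ?_, ?_⟩
    · rw [← cancel_mono T'.ι, Category.assoc, hb', ← Category.assoc, hb, Category.assoc, IsIso.hom_inv_id,
        Category.comp_id, Category.id_comp]
    · rw [← cancel_mono T.ι, Category.assoc, hb, ← Category.assoc, hb', Category.assoc, IsIso.inv_hom_id,
        Category.comp_id, Category.id_comp]
  have w : i' ≫ hT = b ≫ i := by
    rw [← cancel_mono p, Category.assoc, h.w, ← Category.assoc, IsOpenImmersion.lift_fac, Category.assoc,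
      Category.assoc b, IsOpenImmersion.lift_fac, ← hε, ← Category.assoc b, hb, Category.assoc]
  exact ProperBC13.secPull_bijective_of_square hT i i' b w
    (fun G => secPull_completion K hK p hP i (IsOpenImmersion.lift_fac _ _ _) G)
    (fun G => secPull_completion (K.map φ) (hK.map _) p' hP' i' (IsOpenImmersion.lift_fac _ _ _) G)
    (fun G => secPull_bijective_of_isIso b G) G

/-- A finitely generated adic completion is unchanged modulo powers of the ideal. -/
theorem quot_completion {A : Type u} [CommRing A] (I : Ideal A) (hI : I.FG) (n : ℕ) :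
    Function.Bijective (Ideal.quotientMap ((I ^ n).map (algebraMap A (AdicCompletion I A)))
      (algebraMap A (AdicCompletion I A)) Ideal.le_comap_map) := by
  refine ⟨(injective_iff_map_eq_zero _).2 fun z hz => ?_, fun z => ?_⟩
  · obtain ⟨a, rfl⟩ := Ideal.Quotient.mk_surjective z
    rw [Ideal.quotientMap_mk, Ideal.Quotient.eq_zero_iff_mem] at hz
    have h1 := Ideal.mem_map_of_mem (AdicCompletion.evalₐ I n).toRingHom hz
    rw [Ideal.map_map, show (AdicCompletion.evalₐ I n).toRingHom.comp (algebraMap A _) = Ideal.Quotient.mk (I ^ n) from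
      RingHom.ext (Rig7.eval_algebraMap I n)] at h1
    have h2 := (Ideal.map_quotient_self (I ^ n)).le h1
    exact (Rig7.eval_algebraMap I n a).symm.trans ((Ideal.mem_bot).1 h2)
  · obtain ⟨b, rfl⟩ := Ideal.Quotient.mk_surjective z
    obtain ⟨a, ha⟩ := Ideal.Quotient.mk_surjective (AdicCompletion.evalₐ I n b)
    refine ⟨Ideal.Quotient.mk _ a, Ideal.Quotient.eq.2 ?_⟩
    exact Rig7.mem_map_pow_of_eval_eq_zero I hI n (by rw [map_sub, Rig7.eval_algebraMap, ha, sub_self])

/-- Strict localizations along a map that is an isomorphism modulo powers of an ideal, modulo those powers. -/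
theorem bijective_strict_pow {A B O O' R R' : Type u} [CommRing A] [CommRing B] [CommRing O] [IsLocalRing O]
    [CommRing O'] [IsLocalRing O'] [CommRing R] [IsLocalRing R] [CommRing R'] [IsLocalRing R']
    [Algebra A O] [Algebra B O'] [Algebra O R] [IsLocalHom (algebraMap O R)] [Hensel.IsStrictHenselization O R]
    [Algebra O' R'] [IsLocalHom (algebraMap O' R')] [Hensel.IsStrictHenselization O' R']
    (χ : A →+* B) (I : Ideal A)
    (hbase : ∀ n, Function.Bijective (Ideal.quotientMap ((I ^ n).map χ) χ Ideal.le_comap_map))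
    (q : Ideal B) [q.IsPrime] (p : Ideal A) [p.IsPrime] (hp : q.comap χ = p) (hIp : I ≤ p)
    [IsLocalization.AtPrime O p] [IsLocalization.AtPrime O' q]
    (f : O →+* O') [IsLocalHom f] (hf : ∀ a, f (algebraMap A O a) = algebraMap B O' (χ a))
    (φ : R →+* R') [IsLocalHom φ] (hφ : ∀ o, φ (algebraMap O R o) = algebraMap O' R' (f o)) (n : ℕ) :
    Function.Bijective (Ideal.quotientMap ((((I.map (algebraMap A O)).map (algebraMap O R)) ^ n).map φ) φ
      Ideal.le_comap_map) := by
  have hJm : I.map (algebraMap A O) ≤ maximalIdeal O :=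
    Ideal.map_le_iff_le_comap.2 fun a ha => (IsLocalization.AtPrime.to_map_mem_maximal_iff O p a).2 (hIp ha)
  rcases Nat.eq_zero_or_pos n with rfl | hn
  · let K := (I.map (algebraMap A O)).map (algebraMap O R)
    have e1 : (K ^ 0).map φ = ⊤ := by rw [pow_zero, Ideal.one_eq_top, Ideal.map_top]
    refine ⟨fun a b _ => ?_, fun z => ⟨0, ?_⟩⟩
    · haveI : Subsingleton (R ⧸ K ^ 0) := Ideal.Quotient.subsingleton_iff.2 (by rw [pow_zero, Ideal.one_eq_top])
      exact Subsingleton.elim _ _
    · haveI : Subsingleton (R' ⧸ (K ^ 0).map φ) := Ideal.Quotient.subsingleton_iff.2 e1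
      exact Subsingleton.elim _ _
  have hKn : ((I.map (algebraMap A O)).map (algebraMap O R)) ^ n = ((I ^ n).map (algebraMap A O)).map (algebraMap O R) := by
    simp only [Ideal.map_pow]
  have hJn : (I ^ n).map (algebraMap A O) ≤ maximalIdeal O :=
    (Ideal.map_mono (Ideal.pow_le_self hn.ne')).trans hJm
  have hqle : (I ^ n).map χ ≤ q := Ideal.map_le_iff_le_comap.2 ((Ideal.pow_le_self hn.ne').trans (hp ▸ hIp))
  rw [hKn]
  exact bijective_strict_quot f φ hφ _ hJn (bijective_localization_quot χ q p hp f hf (I ^ n) hqle (hbase n))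

variable {A : Type u} [CommRing A] (I : Ideal A) (hI : I.FG) [HenselianRing A I]
  (U : (Spec (CommRingCat.of A)).Opens) (hU : IsCompact (U : Set (Spec (CommRingCat.of A))))
  (hUI : ∀ x : Spec (CommRingCat.of A), x ∉ U → I ≤ x.asIdeal)

include hI hU hUI

/-- Direct image to the base commutes with completion for sheaves of sets. -/
theorem isIso_baseChange0Sh (F : EtDesc.Sh (U : Scheme.{u}))
    (H : IsPullback (compl I ∣_ U) (compl I ⁻¹ᵁ U).ι U.ι (compl I)) :
    IsIso (EtBC.baseChange0Sh U.ι (compl I) (compl I ⁻¹ᵁ U).ι (compl I ∣_ U) H.w F) := by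
  haveI : CompactSpace ↥(U : Scheme.{u}) := isCompact_iff_compactSpace.mp hU
  haveI : QuasiCompact U.ι := quasiCompact_of_compactSpace U.ι
  refine isIso_baseChange0Sh_of_strict U.ι (compl I) (compl I ⁻¹ᵁ U).ι (compl I ∣_ U) H F ?_
  intro y' φ hφl hφc hπ G
  let g := compl I
  let R := Hensel.StrictHenz ((Spec (CommRingCat.of A)).presheaf.stalk (g y'))
  let R' := Hensel.StrictHenz ((Spec (CommRingCat.of (AdicCompletion I A))).presheaf.stalk y')
  haveI := hφl
  haveI : HenselianLocalRing R := Hensel.IsStrictHenselization.henselian ((Spec (CommRingCat.of A)).presheaf.stalk (g y'))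
  haveI : HenselianLocalRing R' :=
    Hensel.IsStrictHenselization.henselian ((Spec (CommRingCat.of (AdicCompletion I A))).presheaf.stalk y')
  haveI : IsSepClosed (ResidueField R) :=
    (Hensel.IsStrictHenselization.isSepClosure (R := (Spec (CommRingCat.of A)).presheaf.stalk (g y')) (S := R)).sep_closed
  let π := Hens2.specOf (Spec (CommRingCat.of A)) (g y') R
  let p := pullback.snd U.ι π
  have hP : IsPullback (limMap U.ι g (compl I ⁻¹ᵁ U).ι (g ∣_ U) H.w _ _ _ hπ) (pullback.snd _ _) p
      (Spec.map (CommRingCat.ofHom φ)) := by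
    refine IsPullback.of_right ?_ (limMap_snd U.ι g (compl I ⁻¹ᵁ U).ι (g ∣_ U) H.w _ _ _ hπ) (IsPullback.of_hasPullback U.ι π)
    rw [limMap_fst, ← hπ]
    exact (IsPullback.of_hasPullback _ _).paste_horiz H
  have hclosed : π (closedPoint R) = g y' := specOf_closedPoint _ _ _
  by_cases hy : g y' ∈ U
  · haveI : Surjective p := by
      refine ⟨fun x => ?_⟩
      have hx : π x ∈ U := by
        have := (specializes_closedPoint (x : Spec (CommRingCat.of R))).map π.continuous
        exact this.mem_open U.2 (by rw [hclosed]; exact hy)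
      obtain ⟨z, -, hz⟩ := Scheme.Pullback.exists_preimage_pullback (f := U.ι) (g := π) ⟨_, hx⟩ x rfl
      exact ⟨z, hz⟩
    haveI : Epi p.base := (TopCat.epi_iff_surjective _).2 ‹Surjective p›.surj
    haveI : IsIso p := IsOpenImmersion.isIso p
    haveI : IsProper p := inferInstance
    exact ProperBC13.secPull_bijective_strict φ p _ _ hP G
  · haveI : CompactSpace ↥(pullback U.ι π) := QuasiCompact.compactSpace_of_compactSpace p
    letI k : Algebra A ((Spec (CommRingCat.of A)).presheaf.stalk (g y')) := StructureSheaf.stalkAlgebra A (g y')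
    haveI : IsLocalization.AtPrime ((Spec (CommRingCat.of A)).presheaf.stalk (g y')) (g y').asIdeal :=
      StructureSheaf.IsLocalization.to_stalk A (g y')
    letI k' : Algebra (AdicCompletion I A) ((Spec (CommRingCat.of (AdicCompletion I A))).presheaf.stalk y') :=
      StructureSheaf.stalkAlgebra (AdicCompletion I A) y'
    haveI : IsLocalization.AtPrime ((Spec (CommRingCat.of (AdicCompletion I A))).presheaf.stalk y') y'.asIdeal :=
      StructureSheaf.IsLocalization.to_stalk (AdicCompletion I A) y'
    let O := (Spec (CommRingCat.of A)).presheaf.stalk (g y')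
    let f := (g.stalkMap y').hom
    have hf : ∀ a, f (algebraMap A O a) = algebraMap _ _ (algebraMap A (AdicCompletion I A) a) := fun a =>
      AlgebraicGeometry.stalkMap_toStalk_apply (CommRingCat.ofHom (algebraMap A (AdicCompletion I A))) y' a
    have hIy : I ≤ (g y').asIdeal := hUI _ hy
    have hJm : I.map (algebraMap A O) ≤ maximalIdeal O :=
      Ideal.map_le_iff_le_comap.2 fun a ha => (IsLocalization.AtPrime.to_map_mem_maximal_iff O (g y').asIdeal a).2 (hIy ha)
    let K : Ideal R := (I.map (algebraMap A O)).map (algebraMap O R)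
    have hKm : K ≤ maximalIdeal R :=
      Ideal.map_le_iff_le_comap.2 (hJm.trans fun x hx hu => hx ((isUnit_map_iff (algebraMap O R) x).1 hu))
    refine secPull_bijective_complete φ K ((hI.map _).map _) hKm (fun n => ?_) p ?_ _ _ hP G
    · exact bijective_strict_pow (algebraMap A (AdicCompletion I A)) I (quot_completion I hI) y'.asIdeal
        (g y').asIdeal rfl hIy f hf φ (RingHom.congr_fun hφc) n
    · intro x hx
      have hπx : π x ∉ U := fun hc => hx (by
        obtain ⟨z, -, hz⟩ := Scheme.Pullback.exists_preimage_pullback (f := U.ι) (g := π) ⟨_, hc⟩ x rfl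
        exact ⟨z, hz⟩)
      have hπe : π = Spec.map (CommRingCat.ofHom ((algebraMap O R).comp (algebraMap A O))) := by
        show Spec.map _ ≫ (Spec (CommRingCat.of A)).fromSpecStalk (g y') = _
        rw [Spec.fromSpecStalk_eq', ← Spec.map_comp]
        rfl
      have h1 := hUI _ hπx
      rw [hπe] at h1
      show (I.map (algebraMap A O)).map (algebraMap O R) ≤ x.asIdeal
      rw [Ideal.map_map]
      exact Ideal.map_le_iff_le_comap.2 h1

end Groth.Agent.GabberRigSec
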