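import Groth.Agent.EtFound.GabberMonodromy

/-!
Germs of local sections matching a section over `T ⟶ X`, when integral covers of points have connected
nonempty base changes.
-/

set_option autoImplicit false
set_option linter.style.haveILetI false

universe u

open CategoryTheory CategoryTheory.Limits AlgebraicGeometry Opposite TopologicalSpace Topology

namespace Groth.Agent.GabberRigSec

set_option backward.isDefEq.respectTransparency.types false

open AbLocEq GabberH0

variable {X T : Scheme.{u}} (g : T ⟶ X) [EtCoh.BCCont g] {F : EtCoh.Ab X} {ι : Type*} (U : ι → X.Etale)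
  (a : ∀ j, F.obj.obj (op (U j))) (M : ∀ j, Set ((EtCoh.bc g).obj (U j)).left)

/-- Local sections that agree wherever their marked sets meet. -/
def AgreeT : Prop :=
  ∀ (j k : ι) (ζ : ((EtCoh.bc g).obj (prodEt (U j) (U k))).left),
    ((EtCoh.bc g).map (p₁ (U j) (U k))).left ζ ∈ M j → ((EtCoh.bc g).map (p₂ (U j) (U k))).left ζ ∈ M k →
    AEq F.obj (F.obj.map (p₁ (U j) (U k)).op (a j)) (F.obj.map (p₂ (U j) (U k)).op (a k))
      (pr g (prodEt (U j) (U k)) ζ)

/-- A point specialising to the image of a marked point. -/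
def Adj (j : ι) (y : (U j).left) : Prop := ∃ z ∈ M j, y ⤳ pr g (U j) z

/-- Every point is the image of the generic point of an absolutely normal integral scheme over the base,
whose base change is connected and nonempty. -/
def GoodCovers : Prop :=
  ∀ x : X, ∃ (W : Scheme.{u}) (ω : W ⟶ X) (_ : IsIntegral W) (_ : IsSepClosed W.functionField),
    IsIntegralHom ω ∧ (∀ w : W, IsIntegrallyClosed (W.presheaf.stalk w)) ∧ ω (genericPoint W) = x ∧
      PreconnectedSpace ↥(pullback ω g) ∧ Nonempty ↥(pullback ω g)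

section mono

variable {W : Scheme.{u}} (ω : W ⟶ X)

omit [EtCoh.BCCont g] in
/-- From a chart of the base change to the base change of the chart. -/
noncomputable def rho (j : ι) (O : (pullback (U j).hom ω).Opens) :
    pullback (O.ι ≫ pullback.snd (U j).hom ω) (pullback.fst ω g) ⟶ ((EtCoh.bc g).obj (U j)).left :=
  pullback.lift (pullback.fst _ _ ≫ O.ι ≫ pullback.fst (U j).hom ω) (pullback.snd _ _ ≫ pullback.snd ω g) (by
    simp only [Category.assoc, ← pullback.condition (f := ω) (g := g)]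
    rw [← pullback.condition_assoc, pullback.condition]
    simp only [Category.assoc])

omit [EtCoh.BCCont g] in
theorem rho_fst (j : ι) (O : (pullback (U j).hom ω).Opens) :
    rho g U ω j O ≫ pullback.fst (U j).hom g = pullback.fst _ _ ≫ O.ι ≫ pullback.fst (U j).hom ω :=
  pullback.lift_fst _ _ _

omit [EtCoh.BCCont g] in
theorem rho_snd (j : ι) (O : (pullback (U j).hom ω).Opens) :
    rho g U ω j O ≫ pullback.snd (U j).hom g = pullback.snd _ _ ≫ pullback.snd ω g :=
  pullback.lift_snd _ _ _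

variable [IsIntegral W] [IsSepClosed W.functionField]

/-- `c` is the germ at the generic point of some section of the family through a chart at `p`. -/
def Val (p : ↥(pullback ω g))
    (c : ToType ((Scheme.pointSmallEtale ((ηb W) ≫ ω)).presheafFiber.obj F.obj)) : Prop :=
  ∃ (j : ι) (O : (pullback (U j).hom ω).Opens)
    (r : ↥(pullback (O.ι ≫ pullback.snd (U j).hom ω) (pullback.fst ω g)))
    (l : Spec (CommRingCat.of W.functionField) ⟶ (O : Scheme.{u}))
    (_ : IsOpenImmersion (O.ι ≫ pullback.snd (U j).hom ω))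
    (_ : pullback.snd (O.ι ≫ pullback.snd (U j).hom ω) (pullback.fst ω g) r = p)
    (_ : rho g U ω j O r ∈ M j) (_ : l ≫ O.ι ≫ pullback.snd (U j).hom ω = (ηb W))
    (t : (Scheme.pointSmallEtale ((ηb W) ≫ ω)).fiber.obj (U j)),
    (t.left : Spec (CommRingCat.of W.functionField) ⟶ (U j).left) = l ≫ O.ι ≫ pullback.fst (U j).hom ω ∧
      (Scheme.pointSmallEtale ((ηb W) ≫ ω)).toPresheafFiber (U j) t F.obj (a j) = c

variable {g U a M}

theorem bc_map_left_pr {V V' : X.Etale} (m : V' ⟶ V) :
    ((EtCoh.bc g).map m).left ≫ pr g V = pr g V' ≫ m.left :=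
  (EtCoh.isPullback_bc_map g m).w

theorem bc_map_left_snd {V V' : X.Etale} (m : V' ⟶ V) :
    ((EtCoh.bc g).map m).left ≫ pullback.snd V.hom g = pullback.snd V'.hom g :=
  MorphismProperty.Over.w ((EtCoh.bc g).map m)

theorem comp_eq_apply {A B C D : Scheme.{u}} {f : A ⟶ B} {h : B ⟶ D} {k : A ⟶ C} {l : C ⟶ D}
    (e : f ≫ h = k ≫ l) (x : A) : h (f x) = l (k x) :=
  (Scheme.Hom.comp_apply f h x).symm.trans
    ((congrArg (fun φ : A ⟶ D => φ x) e).trans (Scheme.Hom.comp_apply k l x))

theorem Val.eq (hA : AgreeT g U a M) {p : ↥(pullback ω g)}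
    {c c' : ToType ((Scheme.pointSmallEtale ((ηb W) ≫ ω)).presheafFiber.obj F.obj)}
    (h : Val g U a M ω p c) (h' : Val g U a M ω p c') : c = c' := by
  obtain ⟨j, O, r, l, hO, hr, hrM, hl, t, ht, rfl⟩ := h
  obtain ⟨k, O', r', l', hO', hr', hrM', hl', t', ht', rfl⟩ := h'
  let Φ := Scheme.pointSmallEtale (ηb W ≫ ω)
  let q := O.ι ≫ pullback.snd (U j).hom ω
  let q' := O'.ι ≫ pullback.snd (U k).hom ω
  let Q := pullback q q'
  let a₁ := pullback.snd q (pullback.fst ω g)
  let a₂ := pullback.snd q' (pullback.fst ω g)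
  obtain ⟨ζ₀, hζ₁, hζ₂⟩ := Scheme.Pullback.exists_preimage_pullback (f := a₁) (g := a₂) r r' (hr.trans hr'.symm)
  let L : Spec (CommRingCat.of W.functionField) ⟶ Q := pullback.lift l l' (hl.trans hl'.symm)
  let m : Q ⟶ pullback (U j).hom (U k).hom :=
    pullback.lift (pullback.fst q q' ≫ O.ι ≫ pullback.fst (U j).hom ω)
      (pullback.snd q q' ≫ O'.ι ≫ pullback.fst (U k).hom ω) (by
      simp only [Category.assoc, pullback.condition]
      exact (pullback.condition_assoc (f := q) (g := q') ω).trans rfl)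
  haveI : IsOpenImmersion q := hO
  haveI : IsOpenImmersion q' := hO'
  haveI : IsOpenImmersion (pullback.fst q q' ≫ q) := inferInstance
  have hL : L ≫ pullback.fst q q' ≫ q = (ηb W) := by
    rw [← Category.assoc, pullback.lift_fst]; exact hl
  let zm : pullback a₁ a₂ ⟶ Q :=
    pullback.lift (pullback.fst a₁ a₂ ≫ pullback.fst q (pullback.fst ω g))
      (pullback.snd a₁ a₂ ≫ pullback.fst q' (pullback.fst ω g)) (by
      rw [Category.assoc, Category.assoc, pullback.condition, pullback.condition]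
      exact (pullback.condition_assoc (f := a₁) (g := a₂) _))
  let n : pullback a₁ a₂ ⟶ ((EtCoh.bc g).obj (prodEt (U j) (U k))).left :=
    pullback.lift (zm ≫ m) (pullback.fst a₁ a₂ ≫ a₁ ≫ pullback.snd ω g) (by
      show (zm ≫ m) ≫ pullback.fst (U j).hom (U k).hom ≫ (U j).hom = _
      simp only [m, zm, a₁, q, Category.assoc, pullback.lift_fst_assoc]
      rw [pullback.condition (f := (U j).hom) (g := ω)]
      rw [← Category.assoc O.ι]
      rw [pullback.condition_assoc (f := O.ι ≫ pullback.snd (U j).hom ω) (g := pullback.fst ω g)]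
      rw [pullback.condition (f := ω) (g := g)])
  have hnf : n ≫ pr g (prodEt (U j) (U k)) = zm ≫ m := pullback.lift_fst _ _ _
  have hns : n ≫ pullback.snd (prodEt (U j) (U k)).hom g = pullback.fst a₁ a₂ ≫ a₁ ≫ pullback.snd ω g :=
    pullback.lift_snd _ _ _
  have hm₁ : m ≫ pullback.fst (U j).hom (U k).hom = pullback.fst q q' ≫ O.ι ≫ pullback.fst (U j).hom ω :=
    pullback.lift_fst _ _ _
  have hm₂ : m ≫ pullback.snd (U j).hom (U k).hom = pullback.snd q q' ≫ O'.ι ≫ pullback.fst (U k).hom ω :=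
    pullback.lift_snd _ _ _
  have hz₁ : zm ≫ pullback.fst q q' = pullback.fst a₁ a₂ ≫ pullback.fst q (pullback.fst ω g) :=
    pullback.lift_fst _ _ _
  have hz₂ : zm ≫ pullback.snd q q' = pullback.snd a₁ a₂ ≫ pullback.fst q' (pullback.fst ω g) :=
    pullback.lift_snd _ _ _
  have hn₁ : n ≫ ((EtCoh.bc g).map (p₁ (U j) (U k))).left = pullback.fst a₁ a₂ ≫ rho g U ω j O := by
    refine pullback.hom_ext ?_ ?_
    · refine (Category.assoc _ _ _).trans (Eq.trans ?_ (Category.assoc _ _ _).symm)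
      refine (congrArg (n ≫ ·) (bc_map_left_pr (p₁ (U j) (U k)))).trans ?_
      refine ((Category.assoc _ _ _).symm.trans (congrArg (· ≫ _) hnf)).trans ?_
      refine (Category.assoc _ _ _).trans ((congrArg (zm ≫ ·) hm₁).trans ?_)
      exact ((Category.assoc _ _ _).symm.trans (congrArg (· ≫ _) hz₁)).trans
        ((Category.assoc _ _ _).trans (congrArg (_ ≫ ·) (rho_fst g U ω j O).symm))
    · refine (Category.assoc _ _ _).trans (Eq.trans ?_ (Category.assoc _ _ _).symm)
      exact (congrArg (n ≫ ·) (bc_map_left_snd (p₁ (U j) (U k)))).trans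
        (hns.trans (congrArg (_ ≫ ·) (rho_snd g U ω j O).symm))
  have hn₂ : n ≫ ((EtCoh.bc g).map (p₂ (U j) (U k))).left = pullback.snd a₁ a₂ ≫ rho g U ω k O' := by
    refine pullback.hom_ext ?_ ?_
    · refine (Category.assoc _ _ _).trans (Eq.trans ?_ (Category.assoc _ _ _).symm)
      refine (congrArg (n ≫ ·) (bc_map_left_pr (p₂ (U j) (U k)))).trans ?_
      refine ((Category.assoc _ _ _).symm.trans (congrArg (· ≫ _) hnf)).trans ?_
      refine (Category.assoc _ _ _).trans ((congrArg (zm ≫ ·) hm₂).trans ?_)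
      exact ((Category.assoc _ _ _).symm.trans (congrArg (· ≫ _) hz₂)).trans
        ((Category.assoc _ _ _).trans (congrArg (_ ≫ ·) (rho_fst g U ω k O').symm))
    · refine (Category.assoc _ _ _).trans (Eq.trans ?_ (Category.assoc _ _ _).symm)
      refine (congrArg (n ≫ ·) (bc_map_left_snd (p₂ (U j) (U k)))).trans (hns.trans ?_)
      exact (pullback.condition_assoc (f := a₁) (g := a₂) (pullback.snd ω g)).trans
        (congrArg (_ ≫ ·) (rho_snd g U ω k O').symm)
  have happ : ∀ {A B : Scheme.{u}} {f f' : A ⟶ B}, f = f' → ∀ x : A, f x = f' x := by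
    rintro A B f f' rfl x; rfl
  let d : Spec (CommRingCat.of W.functionField) := default
  let z := zm ζ₀
  have hspec : L d ⤳ z := by
    refine (pullback.fst q q' ≫ q).isOpenEmbedding.isInducing.specializes_iff.1 ?_
    have e1 : (pullback.fst q q' ≫ q) (L d) = genericPoint W :=
      (congrArg (fun φ : Spec (CommRingCat.of W.functionField) ⟶ W => φ d) hL).trans (ηb_apply d)
    rw [e1]
    exact (genericPoint_spec W).specializes (Set.mem_univ _)
  have hz : AEq F.obj (F.obj.map (p₁ (U j) (U k)).op (a j)) (F.obj.map (p₂ (U j) (U k)).op (a k)) (m z) := by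
    have h1 := hA j k (n ζ₀) (by
      rw [← Scheme.Hom.comp_apply, happ hn₁ ζ₀, Scheme.Hom.comp_apply, hζ₁]; exact hrM) (by
      rw [← Scheme.Hom.comp_apply, happ hn₂ ζ₀, Scheme.Hom.comp_apply, hζ₂]; exact hrM')
    have e : n ≫ pr g (prodEt (U j) (U k)) = zm ≫ m := pullback.lift_fst _ _ _
    have e' : pr g (prodEt (U j) (U k)) (n ζ₀) = m z :=
      (Scheme.Hom.comp_apply _ _ _).symm.trans ((happ e ζ₀).trans (Scheme.Hom.comp_apply _ _ _))
    exact e' ▸ h1
  have hagree : AEq F.obj (F.obj.map (p₁ (U j) (U k)).op (a j)) (F.obj.map (p₂ (U j) (U k)).op (a k)) (m (L d)) :=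
    show m (L d) ∈ {p : (prodEt (U j) (U k)).left | AEq F.obj (F.obj.map (p₁ (U j) (U k)).op (a j))
      (F.obj.map (p₂ (U j) (U k)).op (a k)) p} from
    (hspec.map m.continuous).mem_open (isOpen_aEq _ _) hz
  have hov : (L ≫ m) ≫ pullback.fst (U j).hom (U k).hom ≫ (U j).hom = (ηb W) ≫ ω := by
    rw [Category.assoc, pullback.lift_fst_assoc, ← hL]
    simp only [q, Category.assoc]
    rw [pullback.condition]
  let T' : Φ.fiber.obj (prodEt (U j) (U k)) := CategoryTheory.Over.homMk (L ≫ m) hov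
  have h1 : Φ.fiber.map (p₁ (U j) (U k)) T' = t := CategoryTheory.Over.OverMorphism.ext (by
    show (L ≫ m) ≫ pullback.fst (U j).hom (U k).hom = t.left
    rw [ht, Category.assoc, pullback.lift_fst, ← Category.assoc, pullback.lift_fst])
  have h2 : Φ.fiber.map (p₂ (U j) (U k)) T' = t' := CategoryTheory.Over.OverMorphism.ext (by
    show (L ≫ m) ≫ pullback.snd (U j).hom (U k).hom = t'.left
    rw [ht', Category.assoc, pullback.lift_snd, ← Category.assoc, pullback.lift_snd])
  have hg := germ_eq hagree T' (Scheme.Hom.comp_apply L m d)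
  rw [Φ.toPresheafFiber_w_apply, Φ.toPresheafFiber_w_apply, h1, h2] at hg
  exact hg

variable (hN : ∀ w : W, IsIntegrallyClosed (W.presheaf.stalk w))

include hN in
theorem exists_val_nhd (hMo : ∀ j, IsOpen (M j))
    (hcov : ∀ t : T, ∃ (j : ι) (z : ((EtCoh.bc g).obj (U j)).left), z ∈ M j ∧ ((EtCoh.bc g).obj (U j)).hom z = t)
    (p : ↥(pullback ω g)) :
    ∃ (N : Set ↥(pullback ω g)) (c : ToType ((Scheme.pointSmallEtale ((ηb W) ≫ ω)).presheafFiber.obj F.obj)),
      IsOpen N ∧ p ∈ N ∧ ∀ p' ∈ N, Val g U a M ω p' c := by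
  obtain ⟨j, z, hzM, hz⟩ := hcov (pullback.snd ω g p)
  haveI : Etale (U j).hom := (U j).prop
  haveI : Etale (pullback.snd (U j).hom ω) := MorphismProperty.pullback_snd _ _ inferInstance
  obtain ⟨r₀, hr₁, hr₂⟩ := Scheme.Pullback.exists_preimage_pullback (f := pullback.snd (U j).hom g)
    (g := pullback.snd ω g) z p hz
  let τm : pullback (pullback.snd (U j).hom g) (pullback.snd ω g) ⟶ pullback (U j).hom ω :=
    pullback.lift (pullback.fst _ _ ≫ pullback.fst (U j).hom g) (pullback.snd _ _ ≫ pullback.fst ω g) (by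
      simp only [Category.assoc, pullback.condition (f := (U j).hom) (g := g), pullback.condition (f := ω) (g := g)]
      rw [pullback.condition_assoc])
  obtain ⟨O, hτO, hO⟩ := AbsNormal.exists_chart hN (pullback.snd (U j).hom ω) (τm r₀)
  let O' := τm ⁻¹ᵁ O
  let ψ : (O' : Scheme.{u}) ⟶ pullback (O.ι ≫ pullback.snd (U j).hom ω) (pullback.fst ω g) :=
    pullback.lift (τm ∣_ O) (O'.ι ≫ pullback.snd _ _) (by
      rw [morphismRestrict_ι_assoc, pullback.lift_snd, Category.assoc])
  have hψ : ψ ≫ rho g U ω j O = O'.ι ≫ pullback.fst _ _ := by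
    refine pullback.hom_ext ?_ ?_
    · refine (Category.assoc _ _ _).trans ((congrArg (ψ ≫ ·) (rho_fst g U ω j O)).trans ?_)
      refine ((Category.assoc _ _ _).symm.trans (congrArg (· ≫ _) (pullback.lift_fst _ _ _))).trans ?_
      exact (morphismRestrict_ι_assoc τm O _).trans
        ((congrArg (O'.ι ≫ ·) (pullback.lift_fst _ _ _)).trans (Category.assoc _ _ _).symm)
    · refine (Category.assoc _ _ _).trans ((congrArg (ψ ≫ ·) (rho_snd g U ω j O)).trans ?_)
      refine ((Category.assoc _ _ _).symm.trans (congrArg (· ≫ _) (pullback.lift_snd _ _ _))).trans ?_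
      exact (Category.assoc _ _ _).trans
        ((congrArg (O'.ι ≫ ·) pullback.condition.symm).trans (Category.assoc _ _ _).symm)
  obtain ⟨l, hl⟩ := exists_lift_generic (O.ι ≫ pullback.snd (U j).hom ω) ⟨τm r₀, hτO⟩
  let t : (Scheme.pointSmallEtale (ηb W ≫ ω)).fiber.obj (U j) :=
    CategoryTheory.Over.homMk (l ≫ O.ι ≫ pullback.fst (U j).hom ω) (by
      show (l ≫ O.ι ≫ pullback.fst (U j).hom ω) ≫ (U j).hom = (ηb W) ≫ ω
      rw [← hl]
      simp only [Category.assoc, pullback.condition])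
  haveI : IsOpenImmersion (O.ι ≫ pullback.snd (U j).hom ω) := hO
  refine ⟨pullback.snd (O.ι ≫ pullback.snd (U j).hom ω) (pullback.fst ω g) '' (rho g U ω j O ⁻¹' M j),
    (Scheme.pointSmallEtale ((ηb W) ≫ ω)).toPresheafFiber (U j) t F.obj (a j),
    (pullback.snd (O.ι ≫ pullback.snd (U j).hom ω) (pullback.fst ω g)).isOpenEmbedding.isOpenMap _
      ((hMo j).preimage (rho g U ω j O).continuous), ⟨ψ ⟨r₀, hτO⟩, ?_, ?_⟩, ?_⟩
  · show rho g U ω j O (ψ ⟨r₀, hτO⟩) ∈ M j
    refine Eq.mpr (congrArg (· ∈ M j) ((comp_eq_apply hψ _).trans hr₁)) hzM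
  · exact (comp_eq_apply (pullback.lift_snd _ _ _ : ψ ≫ pullback.snd _ _ = O'.ι ≫ pullback.snd _ _) _).trans hr₂
  · rintro _ ⟨r, hr, rfl⟩
    exact ⟨j, O, r, l, hO, rfl, hr, hl, t, rfl, rfl⟩

include hN in
/-- All lifts of the generic geometric point adjacent to marked sets have the same germ. -/
theorem germ_adjacent (hA : AgreeT g U a M) (hMo : ∀ j, IsOpen (M j))
    (hcov : ∀ t : T, ∃ (j : ι) (z : ((EtCoh.bc g).obj (U j)).left), z ∈ M j ∧ ((EtCoh.bc g).obj (U j)).hom z = t)
    [IsIntegralHom ω] [PreconnectedSpace ↥(pullback ω g)] {j k : ι}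
    (t : (Scheme.pointSmallEtale ((ηb W) ≫ ω)).fiber.obj (U j))
    (t' : (Scheme.pointSmallEtale ((ηb W) ≫ ω)).fiber.obj (U k))
    (ht : Adj g U M j ((t.left : Spec (CommRingCat.of W.functionField) ⟶ (U j).left) (default : Spec (CommRingCat.of W.functionField))))
    (ht' : Adj g U M k ((t'.left : Spec (CommRingCat.of W.functionField) ⟶ (U k).left) (default : Spec (CommRingCat.of W.functionField)))) :
    (Scheme.pointSmallEtale ((ηb W) ≫ ω)).toPresheafFiber (U j) t F.obj (a j) =
      (Scheme.pointSmallEtale ((ηb W) ≫ ω)).toPresheafFiber (U k) t' F.obj (a k) := by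
  let Φ := Scheme.pointSmallEtale (ηb W ≫ ω)
  have key : ∀ (j : ι) (t : Φ.fiber.obj (U j)),
      Adj g U M j ((t.left : Spec (CommRingCat.of W.functionField) ⟶ (U j).left) (default : Spec (CommRingCat.of W.functionField))) →
      ∃ p, Val g U a M ω p (Φ.toPresheafFiber (U j) t F.obj (a j)) := by
    intro j t ⟨z, hzM, hyv⟩
    haveI : Etale (U j).hom := (U j).prop
    haveI : Etale (pullback.snd (U j).hom ω) := MorphismProperty.pullback_snd _ _ inferInstance
    haveI : IsIntegralHom (pullback.fst (U j).hom ω) := MorphismProperty.pullback_fst _ _ inferInstance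
    let t0 : Spec (CommRingCat.of W.functionField) ⟶ (U j).left := t.left
    have hw0 : t0 ≫ (U j).hom = (ηb W) ≫ ω := CategoryTheory.Over.w t
    let l0 : Spec (CommRingCat.of W.functionField) ⟶ pullback (U j).hom ω := pullback.lift t0 (ηb W) hw0
    have e0 : pullback.fst (U j).hom ω (l0 default) = t0 default := by
      rw [← Scheme.Hom.comp_apply, pullback.lift_fst]
    obtain ⟨τ, hτ, hτv⟩ : pr g (U j) z ∈ pullback.fst (U j).hom ω '' closure {l0 default} :=
      ((pullback.fst (U j).hom ω).isClosedMap _ isClosed_closure).stableUnderSpecialization hyv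
        ⟨l0 default, subset_closure rfl, e0⟩
    obtain ⟨O, hτO, hO⟩ := AbsNormal.exists_chart hN (pullback.snd (U j).hom ω) τ
    obtain ⟨r₀, hr₁, hr₂⟩ := Scheme.Pullback.exists_preimage_pullback (f := pullback.fst (U j).hom ω)
      (g := pullback.fst (U j).hom g) τ z hτv
    let τm := pullback.fst (pullback.fst (U j).hom ω) (pullback.fst (U j).hom g)
    let O' := τm ⁻¹ᵁ O
    let πm : pullback (pullback.fst (U j).hom ω) (pullback.fst (U j).hom g) ⟶ pullback ω g :=
      pullback.lift (τm ≫ pullback.snd (U j).hom ω) (pullback.snd _ _ ≫ pullback.snd (U j).hom g) (by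
        simp only [τm, Category.assoc, ← pullback.condition (f := (U j).hom) (g := ω),
          ← pullback.condition (f := (U j).hom) (g := g)]
        rw [pullback.condition_assoc])
    let ψ : (O' : Scheme.{u}) ⟶ pullback (O.ι ≫ pullback.snd (U j).hom ω) (pullback.fst ω g) :=
      pullback.lift (τm ∣_ O) (O'.ι ≫ πm) (by
        rw [morphismRestrict_ι_assoc, Category.assoc, pullback.lift_fst])
    have hψ : ψ ≫ rho g U ω j O = O'.ι ≫ pullback.snd _ _ := by
      refine pullback.hom_ext ?_ ?_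
      · refine (Category.assoc _ _ _).trans ((congrArg (ψ ≫ ·) (rho_fst g U ω j O)).trans ?_)
        refine ((Category.assoc _ _ _).symm.trans (congrArg (· ≫ _) (pullback.lift_fst _ _ _))).trans ?_
        exact (morphismRestrict_ι_assoc τm O _).trans
          ((congrArg (O'.ι ≫ ·) pullback.condition).trans (Category.assoc _ _ _).symm)
      · refine (Category.assoc _ _ _).trans ((congrArg (ψ ≫ ·) (rho_snd g U ω j O)).trans ?_)
        refine ((Category.assoc _ _ _).symm.trans (congrArg (· ≫ _) (pullback.lift_snd _ _ _))).trans ?_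
        exact (Category.assoc _ _ _).trans
          ((congrArg (O'.ι ≫ ·) (pullback.lift_snd _ _ _)).trans (Category.assoc _ _ _).symm)
    have hr₀O : r₀ ∈ O' := show τm r₀ ∈ O from hr₁.symm ▸ hτO
    have h0O : l0 default ∈ O := (specializes_iff_mem_closure.2 hτ).mem_open O.isOpen hτO
    let l : Spec (CommRingCat.of W.functionField) ⟶ (O : Scheme.{u}) := IsOpenImmersion.lift O.ι l0 (by
      rintro _ ⟨p, rfl⟩
      haveI : Subsingleton (Spec (CommRingCat.of W.functionField)) :=
        inferInstanceAs (Subsingleton (PrimeSpectrum W.functionField))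
      rw [Subsingleton.elim p default, O.range_ι]
      exact h0O)
    have hl : l ≫ O.ι = l0 := IsOpenImmersion.lift_fac _ _ _
    refine ⟨(pullback.snd (O.ι ≫ pullback.snd (U j).hom ω) (pullback.fst ω g)) (ψ ⟨r₀, hr₀O⟩), j, O, ψ ⟨r₀, hr₀O⟩, l, hO, rfl, ?_, ?_, t, ?_, rfl⟩
    · exact Eq.mpr (congrArg (· ∈ M j) ((comp_eq_apply hψ _).trans hr₂)) hzM
    · rw [← Category.assoc, hl, pullback.lift_snd]
    · show t0 = l ≫ O.ι ≫ pullback.fst (U j).hom ω
      rw [← Category.assoc, hl, pullback.lift_fst]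
  obtain ⟨p, hv⟩ := key j t ht
  obtain ⟨p', hv'⟩ := key k t' ht'
  choose N c hNo hwN hNc using exists_val_nhd (a := a) ω hN hMo hcov
  have hφ : IsLocallyConstant c := (IsLocallyConstant.iff_exists_open c).2 fun p =>
    ⟨N p, hNo p, hwN p, fun p₁ hp₁ => Val.eq ω hA (hNc p₁ p₁ (hwN p₁)) (hNc p p₁ hp₁)⟩
  rw [Val.eq ω hA hv (hNc p p (hwN p)), Val.eq ω hA hv' (hNc p' p' (hwN p'))]
  exact hφ.apply_eq_of_preconnectedSpace _ _

end mono

variable {g U a M}

/-- Sections of the family agree at points adjacent to marked sets on both sides. -/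
theorem aEq_of_adj (hW : GoodCovers g) (hA : AgreeT g U a M) (hMo : ∀ j, IsOpen (M j))
    (hcov : ∀ t : T, ∃ (j : ι) (z : ((EtCoh.bc g).obj (U j)).left), z ∈ M j ∧ ((EtCoh.bc g).obj (U j)).hom z = t)
    {j k : ι} (p : (prodEt (U j) (U k)).left) (h₁ : Adj g U M j ((p₁ (U j) (U k)).left p))
    (h₂ : Adj g U M k ((p₂ (U j) (U k)).left p)) :
    AEq F.obj (F.obj.map (p₁ (U j) (U k)).op (a j)) (F.obj.map (p₂ (U j) (U k)).op (a k)) p := by
  obtain ⟨W, ω, _, _, hω, hN, hgen, hpc, -⟩ := hW ((prodEt (U j) (U k)).hom p)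
  haveI := hω
  haveI := hpc
  let ξ := ηb W ≫ ω
  let Φ := Scheme.pointSmallEtale ξ
  let d : Spec (CommRingCat.of W.functionField) := default
  have hξ : ξ d = (prodEt (U j) (U k)).hom p := by
    show ω (ηb W d) = _
    rw [ηb_apply, hgen]
  haveI : Etale (prodEt (U j) (U k)).hom := (prodEt (U j) (U k)).prop
  obtain ⟨T₀, hT₀, hT₀p⟩ := Scheme.exists_fac_of_etale_of_isSepClosed (prodEt (U j) (U k)).hom ξ p hξ.symm
  let T' : Φ.fiber.obj (prodEt (U j) (U k)) := CategoryTheory.Over.homMk T₀ hT₀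
  refine aEq_of_germ ξ T' ?_ p hT₀p
  rw [Φ.toPresheafFiber_w_apply, Φ.toPresheafFiber_w_apply]
  refine germ_adjacent ω hN hA hMo hcov _ _ ?_ ?_
  · show Adj g U M j ((T₀ ≫ (p₁ (U j) (U k)).left) d)
    rw [Scheme.Hom.comp_apply, hT₀p]; exact h₁
  · show Adj g U M k ((T₀ ≫ (p₂ (U j) (U k)).left) d)
    rw [Scheme.Hom.comp_apply, hT₀p]; exact h₂

end Groth.Agent.GabberRigSec
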