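import Groth.Agent.ProperBC13.Main

/-! Base change of direct images of sheaves of sets, from strict localizations. -/

set_option autoImplicit false
set_option linter.style.haveILetI false

universe u

open CategoryTheory CategoryTheory.Limits AlgebraicGeometry Opposite IsLocalRing
open Groth.Agent.BigSiteLib.DescSec

namespace Groth.Agent.GabberRigSec

set_option backward.isDefEq.respectTransparency.types false

open HenselConn

variable {X Y X' Y' : Scheme.{u}} (f : X ⟶ Y) [QuasiCompact f] [QuasiSeparated f] (g : Y' ⟶ Y) (f' : X' ⟶ Y')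
  (g' : X' ⟶ X) (H : IsPullback g' f' f g) (F : EtDesc.Sh X)
  (hbij : ∀ (y' : Y')
    (φ : Hensel.StrictHenz (Y.presheaf.stalk (g y')) →+* Hensel.StrictHenz (Y'.presheaf.stalk y')) (_ : IsLocalHom φ)
    (_ : φ.comp (algebraMap _ _) = (algebraMap _ (Hensel.StrictHenz (Y'.presheaf.stalk y'))).comp (g.stalkMap y').hom)
    (hπ : Hens2.specOf Y' y' (Hensel.StrictHenz (Y'.presheaf.stalk y')) ≫ g =
      Spec.map (CommRingCat.ofHom φ) ≫ Hens2.specOf Y (g y') (Hensel.StrictHenz (Y.presheaf.stalk (g y'))))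
    (G : EtDesc.Sh (pullback f (Hens2.specOf Y (g y') (Hensel.StrictHenz (Y.presheaf.stalk (g y')))))),
    Function.Bijective (EtDesc.secPull (limMap f g f' g' H.w _ _ _ hπ) G))

omit [QuasiCompact f] [QuasiSeparated f] hbij H in
/-- The map of strict localizations, with its compatibility. -/
theorem exists_strict_map' (y' : Y') :
    ∃ φ : Hensel.StrictHenz (Y.presheaf.stalk (g y')) →+* Hensel.StrictHenz (Y'.presheaf.stalk y'),
      IsLocalHom φ ∧
      φ.comp (algebraMap _ _) = (algebraMap _ (Hensel.StrictHenz (Y'.presheaf.stalk y'))).comp (g.stalkMap y').hom ∧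
      Hens2.specOf Y' y' (Hensel.StrictHenz (Y'.presheaf.stalk y')) ≫ g =
        Spec.map (CommRingCat.ofHom φ) ≫ Hens2.specOf Y (g y') (Hensel.StrictHenz (Y.presheaf.stalk (g y'))) := by
  let OY := Y.presheaf.stalk (g y')
  let OX := Y'.presheaf.stalk y'
  let RY := Hensel.StrictHenz OY
  let RX := Hensel.StrictHenz OX
  haveI : Algebra.IsSeparable (ResidueField OY) (ResidueField RY) :=
    (Hensel.IsStrictHenselization.isSepClosure (R := OY) (S := RY)).separable
  haveI : IsSepClosed (ResidueField RX) :=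
    (Hensel.IsStrictHenselization.isSepClosure (R := OX) (S := RX)).sep_closed
  let f₀ : OY →+* RX := (algebraMap OX RX).comp (g.stalkMap y').hom
  haveI : IsLocalHom f₀ := RingHom.isLocalHom_comp _ _
  letI : Algebra (ResidueField OY) (ResidueField RX) := (ResidueField.map f₀).toAlgebra
  let τa : ResidueField RY →ₐ[ResidueField OY] ResidueField RX := IsSepClosed.lift
  obtain ⟨φ, ⟨hφ, hφr⟩, -⟩ := Hensel.IsStrictHenselization.universal (R := OY) (S := RY) RX f₀ τa.toRingHom
    (RingHom.ext τa.commutes)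
  letI : Algebra RY RX := φ.toAlgebra
  refine ⟨φ, ⟨fun r hr => ?_⟩, hφ, specOf_comp g y' RY RX hφ⟩
  by_contra hn
  have h0 : residue RX (φ r) = 0 := by
    rw [hφr, (residue_eq_zero_iff r).mpr hn, map_zero]
  exact ((residue_eq_zero_iff _).1 h0) hr

include H hbij

theorem injective_local {V : Y.Etale} {Z : Y'.Etale} (c : Z ⟶ (EtCoh.bc g).obj V)
    (a b : F.obj.obj (op ((EtCoh.bc f).obj V)))
    (e : trA f g f' g' H.w F c a = trA f g f' g' H.w F c b) (z : Z.left) :
    LocEq ((EtDesc.pullSh g).obj ((EtDesc.pushSh f).obj F)).obj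
      (((EtDesc.pullSh g).obj ((EtDesc.pushSh f).obj F)).obj.map c.op (up g ((EtDesc.pushSh f).obj F) V a))
      (((EtDesc.pullSh g).obj ((EtDesc.pushSh f).obj F)).obj.map c.op (up g ((EtDesc.pushSh f).obj F) V b)) z := by
  obtain ⟨y', hy'⟩ : ∃ y' : Y', Z.hom z = y' := ⟨_, rfl⟩
  obtain ⟨φ, hφl, hφc, hπ⟩ := exists_strict_map' g y'
  haveI := flat_specOf (g y') (Hensel.StrictHenz (Y.presheaf.stalk (g y')))
  obtain ⟨ρ', hρ'⟩ := exists_lift_point y' (Hensel.StrictHenz (Y'.presheaf.stalk y')) Z z hy'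
  haveI := hφl
  obtain ⟨ρ, hρ⟩ := exists_lift_comp (g y') (Hensel.StrictHenz (Y.presheaf.stalk (g y'))) φ V
    (ρ'.1 ≫ c.left ≫ pullback.fst V.hom g) (by
      refine Eq.trans ?_ hπ
      refine Eq.trans ?_ (congrArg (· ≫ g) ρ'.2)
      refine (Category.assoc _ _ _).trans ?_
      refine Eq.trans (congrArg (ρ'.1 ≫ ·) ?_) (Category.assoc _ _ _).symm
      refine (Category.assoc _ _ _).trans ((congrArg (c.left ≫ ·) (pullback.condition (f := V.hom) (g := g))).trans ?_)
      exact (Category.assoc _ _ _).symm.trans (congrArg (· ≫ g) (MorphismProperty.Over.w c)))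
  rw [← hρ']
  exact injective_at f g f' g' H F _ _ _ hπ
    (fun G => (hbij y' φ hφl hφc hπ G).1) c ρ ρ' hρ.symm a b e _

theorem surjective_local (Z : Y'.Etale) (t : ((EtDesc.pullSh g').obj F).obj.obj (op ((EtCoh.bc f').obj Z))) (z : Z.left) :
    ∃ (Z' : Y'.Etale) (k : Z' ⟶ Z) (a : ((EtDesc.pullSh g).obj ((EtDesc.pushSh f).obj F)).obj.obj (op Z')),
      z ∈ Set.range k.left ∧ (EtBC.baseChange0Sh f g f' g' H.w F).hom.app (op Z') a =
        ((EtDesc.pullSh g').obj F).obj.map ((EtCoh.bc f').map k).op t := by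
  obtain ⟨y', hy'⟩ : ∃ y' : Y', Z.hom z = y' := ⟨_, rfl⟩
  obtain ⟨φ, hφl, hφc, hπ⟩ := exists_strict_map' g y'
  haveI := flat_specOf (g y') (Hensel.StrictHenz (Y.presheaf.stalk (g y')))
  haveI := flat_specOf y' (Hensel.StrictHenz (Y'.presheaf.stalk y'))
  haveI := hφl
  obtain ⟨ρ', hρ'⟩ := exists_lift_point y' (Hensel.StrictHenz (Y'.presheaf.stalk y')) Z z hy'
  rw [← hρ']
  exact surjective_at f g f' g' H F _ _ _ hπ (hasBasis_specOf _ _)
    (fun G => (hbij y' φ hφl hφc hπ G).2) Z t ρ' _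

/-- Base change in degree zero from bijectivity on strict localizations. -/
theorem isIso_baseChange0Sh_of_strict : IsIso (EtBC.baseChange0Sh f g f' g' H.w F) := by
  let G := (EtDesc.pushSh f).obj F
  refine isIso_of_local _ (fun W s₁ s₂ e w => ?_) (fun W t w => ?_)
  · obtain ⟨V₁, a₁, Z₁, c₁, k₁, z₁, hz₁, he₁⟩ := exists_up_eq_any g G W s₁ w
    obtain ⟨V₂, a₂, Z₂, c₂, k₂, z₂, hz₂, he₂⟩ :=
      exists_up_eq_any g G Z₁ (((EtDesc.pullSh g).obj G).obj.map k₁.op s₂) z₁
    haveI : Etale V₁.hom := V₁.prop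
    haveI : Etale V₂.hom := V₂.prop
    let V : Y.Etale := MorphismProperty.Over.mk ⊤ (pullback.fst V₁.hom V₂.hom ≫ V₁.hom) (by
      haveI : Etale (pullback.fst V₁.hom V₂.hom) := MorphismProperty.pullback_fst _ _ inferInstance
      exact inferInstanceAs (Etale (pullback.fst V₁.hom V₂.hom ≫ V₁.hom)))
    let m₁ : V ⟶ V₁ := MorphismProperty.Over.homMk (pullback.fst V₁.hom V₂.hom) rfl
    let m₂ : V ⟶ V₂ := MorphismProperty.Over.homMk (pullback.snd V₁.hom V₂.hom) pullback.condition.symm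
    obtain ⟨c, hc₁, hc₂⟩ := exists_pair_hom g m₁ m₂ (k₂ ≫ c₁) c₂ (IsPullback.of_hasPullback V₁.hom V₂.hom)
    have f₁ : ((EtDesc.pullSh g).obj G).obj.map c.op (up g G V (G.obj.map m₁.op a₁)) =
        ((EtDesc.pullSh g).obj G).obj.map (k₂ ≫ k₁).op s₁ := by
      rw [up_map, mapF, hc₁, ← mapF, he₁, mapF]
    have f₂ : ((EtDesc.pullSh g).obj G).obj.map c.op (up g G V (G.obj.map m₂.op a₂)) =
        ((EtDesc.pullSh g).obj G).obj.map (k₂ ≫ k₁).op s₂ := by
      rw [up_map, mapF, hc₂, he₂, mapF]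
    have hloc := injective_local f g f' g' H F hbij c (G.obj.map m₁.op a₁) (G.obj.map m₂.op a₂) (by
      rw [← baseChange_up f g f' g' H.w F c, ← baseChange_up f g f' g' H.w F c, f₁, f₂, NatTrans.naturality_apply,
        NatTrans.naturality_apply, e]) z₂
    rw [f₁, f₂] at hloc
    have := LocEq.of_map (k₂ ≫ k₁) hloc
    rwa [show (k₂ ≫ k₁).left z₂ = w from (Scheme.Hom.comp_apply _ _ _).trans ((congrArg k₁.left hz₂).trans hz₁)] at this
  · exact surjective_local f g f' g' H F hbij W t w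

end Groth.Agent.GabberRigSec
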